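import Mathlib
import Cfsg.Agent.Lib.Transfer.Fusion
import Cfsg.Agent.Lib.PGroup.Basic
import Cfsg.Agent.Lib.PGroup.CoprimeAutGroup
import Cfsg.Agent.S2807

/-!
Without wreath quotient, the normalizer of a Sylow subgroup of a perfect group fixes nothing
outside the Frattini subgroup of the Sylow subgroup.
-/

set_option autoImplicit false

namespace CfsgLib.LocalEven.IsolatedSylow

open Subgroup
open scoped commutatorElement

variable {L : Type*} [Group L] [Finite L] {p : ℕ} [hp : Fact p.Prime]

theorem sylow_le_commutator_normalizer (P : Sylow p L) (hperf : commutator L = ⊤)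
    (hnw : ∀ (W : Sylow p (Equiv.Perm (Fin (p ^ 2))))
      (f : ↥(P : Subgroup L) →* ↥(W : Subgroup (Equiv.Perm (Fin (p ^ 2))))), ¬ Function.Surjective f) :
    (P : Subgroup L) ≤ ⁅normalizer ((P : Subgroup L) : Set L), normalizer ((P : Subgroup L) : Set L)⁆ := by
  by_contra h
  obtain ⟨W, f, hf⟩ := Cfsg.Agent.S2807.result P (fun e => h (by
    rw [hperf, inf_top_eq] at e
    exact e.le.trans inf_le_right))
  exact hnw W f hf

/-- An element fixed by the normalizer modulo the Frattini subgroup lies in it. -/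
theorem mem_frattini_of_fixed (P : Sylow p L) {N : Subgroup L}
    (hPN : (P : Subgroup L) ≤ N)
    (hNn : N ≤ normalizer ((P : Subgroup L) : Set L)) (hder : (P : Subgroup L) ≤ ⁅N, N⁆) (w : ↥(P : Subgroup L))
    (hN : ∀ u ∈ N, ∀ v : ↥(P : Subgroup L), (v : L) = u * w * u⁻¹ →
      v * w⁻¹ ∈ frattini ↥(P : Subgroup L)) : w ∈ frattini ↥(P : Subgroup L) := by
  classical
  let _ : CommGroup (↥(P : Subgroup L) ⧸ frattini ↥(P : Subgroup L)) :=
    { (inferInstance : Group (↥(P : Subgroup L) ⧸ frattini ↥(P : Subgroup L))) with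
      mul_comm := CfsgLib.PGroup.quotient_frattini_comm P.2 }
  set π := QuotientGroup.mk' (frattini ↥(P : Subgroup L)) with hπ
  set X := (P : Subgroup L).subgroupOf N with hX
  let f : X →* ↥(P : Subgroup L) ⧸ frattini ↥(P : Subgroup L) :=
    π.comp (subgroupOfEquivOfLe hPN).toMonoidHom
  have hXi : X.index.Coprime p := by
    have h1 : X.index ∣ (P : Subgroup L).index :=
      Subgroup.relIndex_mul_index hPN ▸ dvd_mul_right _ _
    exact Nat.Coprime.coprime_dvd_left h1 ((hp.out.coprime_iff_not_dvd.2 P.not_dvd_index).symm)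
  have hA : IsPGroup p (↥(P : Subgroup L) ⧸ frattini ↥(P : Subgroup L)) := P.2.to_quotient _
  have htriv : ∀ (φ : ↥N →* ↥(P : Subgroup L) ⧸ frattini ↥(P : Subgroup L)) (r : ↥N), φ r = 1 := by
    intro φ r
    have hXker : X ≤ φ.ker := by
      intro y hy
      have hy' : (y : L) ∈ (commutator ↥N).map N.subtype := by
        rw [commutator_def, map_commutator, ← MonoidHom.range_eq_map, range_subtype]
        exact hder hy
      obtain ⟨y', hy'', e⟩ := hy'
      rw [show y = y' from Subtype.ext e.symm, MonoidHom.mem_ker]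
      exact MonoidHom.mem_ker.1 (Abelianization.commutator_subset_ker φ hy'')
    have hd : Nat.card φ.range ∣ X.index := by
      rw [← Subgroup.index_ker]; exact Subgroup.index_dvd_of_le hXker
    obtain ⟨k, hk⟩ := IsPGroup.iff_card.1 (hA.to_subgroup φ.range)
    have h1 : Nat.card φ.range = 1 := by
      rcases Nat.eq_zero_or_pos k with rfl | hk0
      · rw [hk, pow_zero]
      · exfalso
        have := Nat.eq_one_of_dvd_coprimes hXi ((dvd_pow_self p hk0.ne').trans (hk ▸ hd)) dvd_rfl
        exact hp.out.ne_one this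
    exact Subgroup.mem_bot.1 ((Subgroup.eq_bot_of_card_eq _ h1).le ⟨r, rfl⟩)
  have key := CfsgLib.Transfer.map_eq_one_of_transfer hA X hXi f htriv
    ⟨⟨w, hPN w.2⟩, w.2⟩ (fun k t h => by
      rw [← map_pow]
      set v : ↥(P : Subgroup L) := subgroupOfEquivOfLe hPN ⟨_, h⟩ with hv
      have hmem : (t : L)⁻¹ * w * (t : L) ∈ (P : Subgroup L) := by
        have := (mem_normalizer_iff.1 (hNn (N.inv_mem t.2)) (w : L)).1 w.2
        simpa using this
      set v1 : ↥(P : Subgroup L) := ⟨(t : L)⁻¹ * w * (t : L), hmem⟩ with hv1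
      have e : v = v1 ^ k := Subtype.ext (by
        show (t : L)⁻¹ * (w : L) ^ k * (t : L) = ((t : L)⁻¹ * w * (t : L)) ^ k
        conv_rhs => rw [show (t : L)⁻¹ * w * (t : L) = (t : L)⁻¹ * w * ((t : L)⁻¹)⁻¹ by group, conj_pow,
          inv_inv])
      show π v = π ((subgroupOfEquivOfLe hPN) (⟨⟨w, hPN w.2⟩, w.2⟩ ^ k))
      rw [e, map_pow, map_pow, map_pow]
      congr 1
      refine (QuotientGroup.eq (s := frattini ↥(P : Subgroup L))).2 ?_
      have := hN ((t : L)⁻¹) (N.inv_mem t.2) v1 (by rw [hv1]; simp)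
      have h2 := inv_mem (this)
      rw [mul_inv_rev, inv_inv] at h2
      have h3 := (inferInstance : (frattini ↥(P : Subgroup L)).Normal).mem_comm h2
      exact h3)
  exact (QuotientGroup.eq_one_iff _).1 key

end CfsgLib.LocalEven.IsolatedSylow
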