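import Mathlib
import Cfsg.Prelude.Def_CaseTheorems
import Cfsg.Prelude.Def_OddOrderLocal
import Cfsg.Agent.S1952

/-!
A `p`-group of rank two with a normal metacyclic subgroup of index at most `p` has no quotient
isomorphic to `C_p ≀ C_p`.
-/

set_option autoImplicit false

namespace CfsgLib.LocalEven.IsolatedSylow

open Subgroup
open scoped commutatorElement

variable {p : ℕ} [hp : Fact p.Prime]

/-- Translations of the fibres of `ZMod p × ZMod p`. -/
def fibreShift (p : ℕ) : Multiplicative (ZMod p → ZMod p) →* Equiv.Perm (ZMod p × ZMod p) where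
  toFun v := Equiv.prodShear (Equiv.refl _) fun i => Equiv.addRight (v.toAdd i)
  map_one' := by ext x <;> simp
  map_mul' v w := by ext x <;> simp [add_assoc, add_comm (v.toAdd x.1)]

theorem fibreShift_injective : Function.Injective (fibreShift p) := by
  intro v w h
  apply Multiplicative.toAdd.injective
  funext i
  have := congrArg (fun e : Equiv.Perm (ZMod p × ZMod p) => (e (i, 0)).2) h
  simpa [fibreShift] using this

/-- A Sylow subgroup of `S_{p²}` contains an elementary abelian subgroup of order `p ^ p`. -/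
theorem exists_elementary (W : Sylow p (Equiv.Perm (Fin (p ^ 2)))) :
    ∃ E : Subgroup ↥(W : Subgroup (Equiv.Perm (Fin (p ^ 2)))),
      (∀ a ∈ E, ∀ b ∈ E, a * b = b * a) ∧ (∀ a ∈ E, a ^ p = 1) ∧ Nat.card E = p ^ p := by
  classical
  let e : ZMod p × ZMod p ≃ Fin (p ^ 2) := Finite.equivFinOfCardEq (by
    rw [Nat.card_prod, Nat.card_zmod, pow_two])
  let f : Multiplicative (ZMod p → ZMod p) →* Equiv.Perm (Fin (p ^ 2)) :=
    e.permCongrHom.toMonoidHom.comp (fibreShift p)
  have hf : Function.Injective f := e.permCongrHom.injective.comp fibreShift_injective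
  have hc : Nat.card f.range = p ^ p := by
    rw [← Nat.card_congr (MonoidHom.ofInjective hf).toEquiv, Nat.card_congr Multiplicative.toAdd,
      Nat.card_fun, Nat.card_zmod]
  obtain ⟨Q, hQ⟩ := (IsPGroup.of_card hc).exists_le_sylow
  obtain ⟨g, hg⟩ := MulAction.exists_smul_eq (Equiv.Perm (Fin (p ^ 2))) Q W
  have hmem : ∀ v, g * f v * g⁻¹ ∈ (W : Subgroup (Equiv.Perm (Fin (p ^ 2)))) := fun v => by
    rw [← hg, Sylow.coe_subgroup_smul]
    exact ⟨f v, hQ ⟨v, rfl⟩, rfl⟩
  let f' : Multiplicative (ZMod p → ZMod p) →* ↥(W : Subgroup (Equiv.Perm (Fin (p ^ 2)))) :=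
    ((MulAut.conj g).toMonoidHom.comp f).codRestrict _ hmem
  have hf' : Function.Injective f' := fun v w h =>
    hf ((MulAut.conj g).injective (congrArg Subtype.val h))
  have hvp : ∀ v : Multiplicative (ZMod p → ZMod p), v ^ p = 1 := fun v => by
    apply Multiplicative.toAdd.injective
    rw [toAdd_pow, toAdd_one]
    funext i
    simp
  refine ⟨f'.range, ?_, ?_, ?_⟩
  · rintro _ ⟨v, rfl⟩ _ ⟨w, rfl⟩
    rw [← map_mul, mul_comm, map_mul]
  · rintro _ ⟨v, rfl⟩
    rw [← map_pow, hvp, map_one]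
  · rw [← Nat.card_congr (MonoidHom.ofInjective hf').toEquiv, Nat.card_congr Multiplicative.toAdd,
      Nat.card_fun, Nat.card_zmod]

/-- A Sylow subgroup of `S_{p²}` has cyclic centre: it contains a cycle moving every point. -/
theorem card_central_le (W : Sylow p (Equiv.Perm (Fin (p ^ 2))))
    {Z : Subgroup ↥(W : Subgroup (Equiv.Perm (Fin (p ^ 2))))}
    (hZ : ∀ z ∈ Z, ∀ w, w * z = z * w) (hZp : ∀ z ∈ Z, z ^ p = 1) : Nat.card Z ≤ p := by
  classical
  have hp2 : 2 ≤ p ^ 2 := le_trans hp.out.two_le (Nat.le_self_pow (by norm_num) p)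
  set c₀ := finRotate (p ^ 2)
  have hc₀ : c₀.IsCycle := isCycle_finRotate_of_le hp2
  have hord : orderOf c₀ = p ^ 2 := by
    rw [hc₀.orderOf, support_finRotate_of_le hp2, Finset.card_univ, Fintype.card_fin]
  obtain ⟨Q, hQ⟩ := (IsPGroup.of_card (G := ↥(zpowers c₀)) (by rw [Nat.card_zpowers, hord])).exists_le_sylow
  obtain ⟨g, hg⟩ := MulAction.exists_smul_eq (Equiv.Perm (Fin (p ^ 2))) Q W
  set c := g * c₀ * g⁻¹ with hcdef
  have hcW : c ∈ (W : Subgroup (Equiv.Perm (Fin (p ^ 2)))) := by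
    rw [← hg, Sylow.coe_subgroup_smul]
    exact ⟨c₀, hQ (mem_zpowers _), rfl⟩
  have hc : c.IsCycle := hc₀.conj
  have hsupp : ∀ a, c a ≠ a := fun a h => by
    have h0 : c₀ (g⁻¹ a) ≠ g⁻¹ a := Equiv.Perm.mem_support.1 (by
      rw [support_finRotate_of_le hp2]; exact Finset.mem_univ _)
    exact h0 (by
      have := congrArg (g⁻¹ : Equiv.Perm (Fin (p ^ 2))) h
      simpa [hcdef] using this)
  let ι : ↥Z →* Equiv.Perm (Fin (p ^ 2)) :=
    (W : Subgroup (Equiv.Perm (Fin (p ^ 2)))).subtype.comp Z.subtype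
  have hι : Function.Injective ι := Subtype.val_injective.comp Subtype.val_injective
  have hle : ι.range ≤ zpowers c := by
    rintro _ ⟨z, rfl⟩
    have hcomm : Commute c (ι z) := congrArg Subtype.val (hZ z z.2 ⟨c, hcW⟩)
    let a : Fin (p ^ 2) := ⟨0, by omega⟩
    obtain ⟨i, hi⟩ := hc.exists_zpow_eq (hsupp a) (hsupp (ι z a))
    refine ⟨i, Equiv.ext fun b => ?_⟩
    obtain ⟨j, rfl⟩ := hc.exists_zpow_eq (hsupp a) (hsupp b)
    show (c ^ i) ((c ^ j) a) = ι z ((c ^ j) a)
    rw [← Equiv.Perm.mul_apply, ← Equiv.Perm.mul_apply, (Commute.zpow_zpow_self c i j).eq,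
      Equiv.Perm.mul_apply, hi, ← Equiv.Perm.mul_apply, (hcomm.zpow_left j).eq]
  haveI : IsCyclic ↥Z := isCyclic_of_injective
    ((Subgroup.inclusion hle).comp (MonoidHom.ofInjective hι).toMonoidHom)
    ((Subgroup.inclusion_injective hle).comp (MonoidHom.ofInjective hι).injective)
  obtain ⟨z, hz⟩ := IsCyclic.exists_ofOrder_eq_natCard (α := ↥Z)
  rw [← hz]
  exact Nat.le_of_dvd hp.out.pos (orderOf_dvd_of_pow_eq_one (Subtype.ext (hZp z z.2)))

theorem card_sylow_sq (W : Sylow p (Equiv.Perm (Fin (p ^ 2)))) :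
    Nat.card ↥(W : Subgroup (Equiv.Perm (Fin (p ^ 2)))) = p ^ (p + 1) := by
  rw [W.card_eq_multiplicity, Nat.card_perm, Nat.card_fin, pow_two, Nat.factorization_def _ hp.out,
    padicValNat_factorial_mul, show padicValNat p (Nat.factorial p) = 1 by
      have := padicValNat_factorial_mul (p := p) 1
      rw [mul_one, Nat.factorial_one, padicValNat.one, zero_add] at this
      exact this, add_comm 1 p]

omit hp in
/-- Elementary abelian subgroups of metacyclic groups have order at most `p ^ 2`. -/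
theorem card_elementary_le_of_metacyclic {R : Type*} [Group R] [Finite R] (hp : 0 < p)
    (hm : Cfsg.IsMetacyclic R) {E : Subgroup R}
    (hE : ∀ a ∈ E, a ^ p = 1) : Nat.card E ≤ p ^ 2 := by
  classical
  obtain ⟨N, hN, hNc, hQc⟩ := hm
  have hcyc : ∀ {C : Type _} [Group C] [Finite C] [IsCyclic C], (∀ a : C, a ^ p = 1) → Nat.card C ≤ p := by
    intro C _ _ _ h
    obtain ⟨z, hz⟩ := IsCyclic.exists_ofOrder_eq_natCard (α := C)
    rw [← hz]
    exact Nat.le_of_dvd hp (orderOf_dvd_of_pow_eq_one (h z))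
  set f := (QuotientGroup.mk' N).comp E.subtype with hf
  rw [← Subgroup.card_mul_index f.ker, Subgroup.index_ker, pow_two]
  refine Nat.mul_le_mul ?_ ?_
  · haveI : IsCyclic ↥f.ker := isCyclic_of_injective
      ((E.subtype.comp f.ker.subtype).codRestrict N fun x => (QuotientGroup.eq_one_iff _).1 x.2)
      fun a b h => Subtype.ext (Subtype.ext (congrArg (fun y : ↥N => (y : R)) h))
    exact hcyc fun a => Subtype.ext (Subtype.ext (hE _ (a : ↥E).2))
  · exact hcyc fun ⟨_, a, rfl⟩ => Subtype.ext (show f a ^ p = 1 by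
      rw [← map_pow, show a ^ p = 1 from Subtype.ext (hE a a.2), map_one])

omit hp in
theorem isMetacyclic_of_surjective' {R S : Type*} [Group R] [Group S] (h : Cfsg.IsMetacyclic R)
    (f : R →* S) (hf : Function.Surjective f) : Cfsg.IsMetacyclic S := by
  obtain ⟨N, hN, hNc, hQ⟩ := h
  haveI := hN.map f hf
  refine ⟨N.map f, hN.map f hf, isCyclic_of_surjective (f.subgroupMap N) (f.subgroupMap_surjective N), ?_⟩
  exact isCyclic_of_surjective (QuotientGroup.map N (N.map f) f fun x hx => ⟨x, hx, rfl⟩) fun q => by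
    obtain ⟨s, rfl⟩ := QuotientGroup.mk'_surjective _ q
    obtain ⟨r, rfl⟩ := hf s
    exact ⟨QuotientGroup.mk' N r, rfl⟩

/-- No wreath quotient of a metacyclic group. -/
theorem noWreath_of_metacyclic {P : Type*} [Group P] [Finite P] (hp2 : p ≠ 2) (hm : Cfsg.IsMetacyclic P)
    (W : Sylow p (Equiv.Perm (Fin (p ^ 2))))
    (f : P →* ↥(W : Subgroup (Equiv.Perm (Fin (p ^ 2))))) : ¬ Function.Surjective f := by
  intro hf
  obtain ⟨E, -, hEp, hEc⟩ := exists_elementary W
  have h := card_elementary_le_of_metacyclic hp.out.pos (isMetacyclic_of_surjective' hm f hf) hEp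
  rw [hEc] at h
  have := (Nat.pow_le_pow_iff_right hp.out.one_lt).1 h
  have := hp.out.two_le
  omega

/-- No wreath quotient of a group of rank two with a metacyclic normal subgroup `M` of index `p`
whose derived subgroup lies in every nontrivial normal subgroup. -/
theorem not_surjective_of_index_prime {P : Type*} [Group P] [Finite P] (hp2 : p ≠ 2)
    (hrank : Cfsg.PRankLE p 2 P) (M : Subgroup P) (hM : M.index = p)
    (hMm : Cfsg.IsMetacyclic ↥M) (hMd : ∀ N : Subgroup P, N.Normal → N ≠ ⊥ → ⁅M, M⁆ ≤ N)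
    {T : Type*} [Group T] [Finite T] (hT : Nat.card T = p ^ (p + 1))
    (hEx : ∃ E : Subgroup T, (∀ a ∈ E, ∀ b ∈ E, a * b = b * a) ∧ (∀ a ∈ E, a ^ p = 1) ∧ Nat.card E = p ^ p)
    (hcyc : ∀ Z : Subgroup T, (∀ z ∈ Z, ∀ w, w * z = z * w) → (∀ z ∈ Z, z ^ p = 1) → Nat.card Z ≤ p)
    (f : P →* T) : ¬ Function.Surjective f := by
  intro hf
  have hp3 : 3 ≤ p := by have := hp.out.two_le; omega
  obtain ⟨E, hEc', hEp, hEc⟩ := hEx
  by_cases hker : f.ker = ⊥
  · let e := MulEquiv.ofBijective f ⟨(MonoidHom.ker_eq_bot_iff f).1 hker, hf⟩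
    have h := hrank (E.map e.symm.toMonoidHom) ⟨⟨by
      rintro ⟨_, a, ha, rfl⟩ ⟨_, b, hb, rfl⟩
      exact Subtype.ext (by show e.symm a * e.symm b = e.symm b * e.symm a
                            rw [← map_mul, hEc' a ha b hb, map_mul])⟩⟩ (by
      rintro _ ⟨a, ha, rfl⟩
      rw [← map_pow, hEp a ha, map_one])
    rw [card_map_of_injective e.symm.injective, hEc] at h
    have := (Nat.pow_le_pow_iff_right hp.out.one_lt).1 h
    omega
  set N' := M.map f with hN'
  have hN'm : Cfsg.IsMetacyclic ↥N' :=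
    isMetacyclic_of_surjective' hMm (f.subgroupMap M) (f.subgroupMap_surjective M)
  have hsmall : ∀ F : Subgroup T, F ≤ N' →
      (∀ a ∈ F, a ^ p = 1) → Nat.card F ≤ p ^ 2 := by
    intro F hF hFp
    have h := card_elementary_le_of_metacyclic hp.out.pos hN'm (E := F.subgroupOf N')
      (fun a ha => Subtype.ext (hFp a ha))
    rwa [Nat.card_congr (subgroupOfEquivOfLe hF).toEquiv] at h
  have hNE : ¬ E ≤ N' := fun h => by
    have h' := hsmall E h hEp
    rw [hEc] at h'
    have := (Nat.pow_le_pow_iff_right hp.out.one_lt).1 h'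
    omega
  have hN'i : N'.index ∣ p := hM ▸ Subgroup.index_map_dvd M hf
  have hN'c : ∀ a ∈ N', ∀ b ∈ N', a * b = b * a := by
    rintro _ ⟨a, ha, rfl⟩ _ ⟨b, hb, rfl⟩
    have h1 : ⁅a, b⁆ ∈ f.ker := hMd _ inferInstance hker (commutator_mem_commutator ha hb)
    rw [MonoidHom.mem_ker, map_commutatorElement] at h1
    exact commutatorElement_eq_one_iff_mul_comm.1 h1
  have hEi : E.index = p := by
    have h := E.card_mul_index
    rw [hEc, hT, pow_succ] at h
    exact Nat.eq_of_mul_eq_mul_left (pow_pos hp.out.pos _) h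
  have hN'p : N'.index = p := ((Nat.dvd_prime hp.out).1 hN'i).resolve_left fun h => hNE (by
    rw [Subgroup.index_eq_one.1 h]; exact le_top)
  have htop : E ⊔ N' = ⊤ := by
    rcases (Nat.dvd_prime hp.out).1 (hN'p ▸ Subgroup.index_dvd_of_le (le_sup_right : N' ≤ E ⊔ N')) with h | h
    · exact Subgroup.index_eq_one.1 h
    · refine absurd ?_ hNE
      have : N' = E ⊔ N' := eq_of_le_of_card_ge le_sup_right (Nat.le_of_eq (by
        have h1 := N'.card_mul_index
        have h2 := (E ⊔ N').card_mul_index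
        rw [hN'p] at h1; rw [h] at h2
        exact Nat.eq_of_mul_eq_mul_right hp.out.pos (h2.trans h1.symm)))
      exact le_sup_left.trans this.ge
  have hcen : ∀ z ∈ E ⊓ N', ∀ w, w * z = z * w := by
    intro z hz w
    have hle : E ⊔ N' ≤ centralizer ({z} : Set _) := sup_le
      (fun a ha => mem_centralizer_singleton_iff.2 (hEc' a ha z hz.1))
      (fun a ha => mem_centralizer_singleton_iff.2 (hN'c a ha z hz.2))
    exact mem_centralizer_singleton_iff.1 (hle (htop ▸ mem_top w))
  have hZ := hcyc _ hcen fun z hz => hEp z hz.1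
  have hcard : p ^ p ≤ Nat.card ↥(E ⊓ N') * p := by
    rw [← hEc, ← (N'.subgroupOf E).card_mul_index, ← Subgroup.inf_subgroupOf_left,
      Nat.card_congr (subgroupOfEquivOfLe (inf_le_left : E ⊓ N' ≤ E)).toEquiv,
      Subgroup.inf_subgroupOf_left]
    exact Nat.mul_le_mul_left _ (by
      have h1 := relIndex_le_of_le_right (H := N') (le_top : E ≤ ⊤)
        (by rw [relIndex_top_right, hN'p]; exact hp.out.ne_zero)
      rwa [relIndex_top_right, hN'p] at h1)
  have : p ^ 3 ≤ p ^ 2 := le_trans (Nat.pow_le_pow_right hp.out.pos hp3)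
    (hcard.trans (by rw [pow_two]; exact Nat.mul_le_mul_right p hZ))
  have := (Nat.pow_le_pow_iff_right hp.out.one_lt).1 this
  omega

/-- The same for a Sylow subgroup of `S_{p²}`. -/
theorem noWreath_of_index_prime {P : Type*} [Group P] [Finite P] (hp2 : p ≠ 2)
    (hrank : Cfsg.PRankLE p 2 P) (M : Subgroup P) (hM : M.index = p)
    (hMm : Cfsg.IsMetacyclic ↥M) (hMd : ∀ N : Subgroup P, N.Normal → N ≠ ⊥ → ⁅M, M⁆ ≤ N)
    (W : Sylow p (Equiv.Perm (Fin (p ^ 2))))
    (f : P →* ↥(W : Subgroup (Equiv.Perm (Fin (p ^ 2))))) : ¬ Function.Surjective f :=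
  not_surjective_of_index_prime hp2 hrank M hM hMm hMd (card_sylow_sq W) (exists_elementary W)
    (fun _ h1 h2 => card_central_le W h1 h2) f

end CfsgLib.LocalEven.IsolatedSylow
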