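import Mathlib
import Cfsg.Prelude.Def_CaseTheorems
import Cfsg.Prelude.Def_OddOrderLocal
import Cfsg.Agent.Lib.PGroup.Basic
import Cfsg.Agent.Lib.PGroup.CoprimeAutGroup
import Cfsg.Agent.Lib.OddLocal.RankTwo.MetacyclicAction
import Cfsg.Agent.Lib.Transfer.Critical
import Cfsg.Agent.Lib.Transfer.CyclicMaximal
import Cfsg.Agent.Lib.LocalEven.IsolatedRankTwo
import Cfsg.Agent.Lib.LocalEven.IsolatedSylow.Wreath

/-!
Coprime automorphism groups fixing a central element of order `p` of a `p`-group of rank two,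
with no fixed point outside the Frattini subgroup.
-/

set_option autoImplicit false

namespace CfsgLib.LocalEven.IsolatedSylow

open Subgroup
open scoped commutatorElement

variable {Q : Type*} [Group Q] [Finite Q] {p : ℕ} [hp : Fact p.Prime]

/-- No element outside the Frattini subgroup is fixed modulo it. -/
def NoFix (𝔸 : Subgroup (MulAut Q)) : Prop :=
  ∀ w : Q, (∀ α ∈ 𝔸, α w * w⁻¹ ∈ frattini Q) → w ∈ frattini Q

omit [Finite Q] in
theorem noFix_fixed {𝔸 : Subgroup (MulAut Q)} (h : NoFix 𝔸) {w : Q} (hw : ∀ α ∈ 𝔸, α w = w) :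
    w ∈ frattini Q :=
  h w fun α hα => by rw [hw α hα, mul_inv_cancel]; exact one_mem _

theorem closure_eq_top_of_noFix (hQ : IsPGroup p Q) {𝔸 : Subgroup (MulAut Q)}
    (hA : (Nat.card 𝔸).Coprime p) (hnf : NoFix 𝔸) :
    closure {d : Q | ∃ g : Q, ∃ α ∈ 𝔸, d = g⁻¹ * α g} = ⊤ := by
  classical
  have := Fintype.ofFinite 𝔸
  set K := closure {d : Q | ∃ g : Q, ∃ α ∈ 𝔸, d = g⁻¹ * α g} with hK
  let _ : CommGroup (Q ⧸ frattini Q) :=
    { (inferInstance : Group (Q ⧸ frattini Q)) with mul_comm := CfsgLib.PGroup.quotient_frattini_comm hQ }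
  set π := QuotientGroup.mk' (frattini Q)
  have hchar : ∀ (α : MulAut Q) (g : Q), g ∈ frattini Q → α g ∈ frattini Q := fun α g hg => by
    have := (inferInstance : (frattini Q).Characteristic).fixed α
    exact (SetLike.ext_iff.1 this g).2 hg
  refine CfsgLib.PGroup.eq_top_of_sup_frattini (top_le_iff.1 fun g _ => ?_)
  -- the product over the group of the images of `g` is fixed
  set m := ∏ a : 𝔸, π ((a : MulAut Q) g) with hm
  obtain ⟨w, hw⟩ := QuotientGroup.mk'_surjective (frattini Q) m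
  have hw1 : π w = 1 := by
    refine (QuotientGroup.eq_one_iff _).2 (hnf w fun α hα => ?_)
    rw [← QuotientGroup.eq_one_iff (N := frattini Q)]
    show π (α w * w⁻¹) = 1
    rw [map_mul, map_inv, mul_inv_eq_one, hw]
    -- the automorphism of the quotient induced by `α`
    let ᾱ : Q ⧸ frattini Q →* Q ⧸ frattini Q :=
      QuotientGroup.map _ _ α.toMonoidHom fun x hx => hchar α x hx
    calc π (α w) = ᾱ (π w) := rfl
      _ = ∏ a : 𝔸, ᾱ (π ((a : MulAut Q) g)) := by rw [hw, hm, map_prod]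
      _ = m := Fintype.prod_equiv (Equiv.mulLeft (⟨α, hα⟩ : 𝔸)) _ _ fun a => rfl
  have hK' : ∀ a : 𝔸, π g⁻¹ * π ((a : MulAut Q) g) ∈ K.map π := fun a =>
    ⟨_, subset_closure ⟨g, a, a.2, rfl⟩, by rw [map_mul]⟩
  have h1 : π g⁻¹ ^ Fintype.card 𝔸 ∈ K.map π := by
    have h2 : (∏ a : 𝔸, (π g⁻¹ * π ((a : MulAut Q) g))) = π g⁻¹ ^ Fintype.card 𝔸 := by
      rw [Finset.prod_mul_distrib, Finset.prod_const, ← hm, ← hw, hw1, mul_one, Finset.card_univ]
    exact h2 ▸ Subgroup.prod_mem _ fun a _ => hK' a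
  have h3 : π g⁻¹ ∈ K.map π := by
    rw [← Nat.card_eq_fintype_card] at h1
    refine (zpowers_le.2 h1) ?_
    exact (Nat.Coprime.pow_left 1 ((hA.coprime_dvd_right
      (orderOf_dvd_of_pow_eq_one (CfsgLib.PGroup.quotient_frattini_pow hQ (π g⁻¹)))).symm)) |> fun h => by
        obtain ⟨j, hj⟩ := exists_pow_eq_self_of_coprime (x := π g⁻¹) (n := Nat.card 𝔸) (by
          simpa using h.symm)
        exact mem_zpowers_iff.2 ⟨(j : ℤ), by rw [zpow_natCast]; exact hj⟩
  obtain ⟨k, hk, hke⟩ := h3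
  rw [show g = k⁻¹ * (g⁻¹ * k⁻¹)⁻¹ by group]
  refine mul_mem (mem_sup_left (inv_mem hk)) (mem_sup_right (inv_mem ?_))
  rw [← QuotientGroup.eq_one_iff (N := frattini Q)]
  show π (g⁻¹ * k⁻¹) = 1
  rw [map_mul, map_inv π k, hke, mul_inv_cancel]

theorem mem_commutator_of_noFix (hQ : IsPGroup p Q) {𝔸 : Subgroup (MulAut Q)}
    (hA : (Nat.card 𝔸).Coprime p) (hnf : NoFix 𝔸) {u : Q} (hu : ∀ α ∈ 𝔸, α u = u) :
    u ∈ _root_.commutator Q :=
  CfsgLib.PGroup.fixed_mem_commutator hQ 𝔸 hA (closure_eq_top_of_noFix hQ hA hnf) hu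

/-- A metacyclic group has no such group of automorphisms. -/
theorem not_noFix_of_metacyclic (hQ : IsPGroup p Q) (hp2 : p ≠ 2) (hm : Cfsg.IsMetacyclic Q)
    {𝔸 : Subgroup (MulAut Q)} (hA : (Nat.card 𝔸).Coprime p) {x : Q} (hx : x ≠ 1)
    (hfix : ∀ α ∈ 𝔸, α x = x) : ¬ NoFix 𝔸 := by
  intro hnf
  have hgen : CfsgLib.OddLocal.RankTwo.Generates 𝔸.subtype := by
    have h := closure_eq_top_of_noFix hQ hA hnf
    rw [CfsgLib.OddLocal.RankTwo.Generates, ← top_le_iff, ← h, closure_le]
    rintro _ ⟨g, α, hα, rfl⟩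
    exact subset_closure ⟨⟨α, hα⟩, g, rfl⟩
  have hcomm := CfsgLib.OddLocal.RankTwo.comm_of_metacyclic_generates hQ hp2 hm hA hgen
  have h := mem_commutator_of_noFix hQ hA hnf hfix
  have hbot : _root_.commutator Q = ⊥ := by
    rw [_root_.commutator_def, Subgroup.commutator_eq_bot_iff_le_centralizer]
    exact fun a _ => mem_centralizer_iff.2 fun b _ => hcomm b a
  rw [hbot, mem_bot] at h
  exact hx h

/-- In rank two the centre is cyclic when there is a noncentral element of order `p`. -/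
theorem isCyclic_center (hQ : IsPGroup p Q) (hp2 : p ≠ 2) (hrank : Cfsg.PRankLE p 2 Q) {y : Q}
    (hy : y ^ p = 1) (hyc : y ∉ center Q) : IsCyclic ↥(center Q) := by
  by_contra hc
  obtain ⟨E, hEZ, -, hEe, hEc⟩ := CfsgLib.Transfer.exists_normal_elemAb_sq hQ hp2 hc
  have hne : E ≠ ⊥ := fun h => by
    rw [h, card_bot] at hEc; exact (Nat.one_lt_pow two_ne_zero hp.out.one_lt).ne hEc
  obtain ⟨a, ha, ha1⟩ := (bot_or_exists_ne_one E).resolve_left hne
  have hao : orderOf a = p := orderOf_eq_prime (hEe.2 a ha) ha1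
  have hlt : ¬ E ≤ zpowers a := fun h => by
    have := card_le_of_le h
    rw [hEc, Nat.card_zpowers, hao] at this
    nlinarith [hp.out.two_le]
  obtain ⟨b, hb, hb1⟩ := SetLike.not_le_iff_exists.1 hlt
  have hbo : orderOf b = p := orderOf_eq_prime (hEe.2 b hb) fun h => hb1 (h ▸ one_mem _)
  have hcz : ∀ e ∈ E, ∀ g : Q, Commute e g := fun e he g => (mem_center_iff.1 (hEZ he) g).symm
  exact hyc ((closure_le _).2 (by rintro u (rfl | rfl) <;> [exact hEZ ha; exact hEZ hb])
    (mem_closure_pair_of_rank hrank hao hbo hb1 hy (hcz a ha b) (hcz a ha y) (hcz b hb y)))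

/-- Coprime automorphisms fixing an element of order `p` fix a cyclic centre. -/
theorem fix_center (hp2 : p ≠ 2) (hQ : IsPGroup p Q) (hcyc : IsCyclic ↥(center Q))
    {α : MulAut Q} (hα : (orderOf α).Coprime p) {x : Q} (hxo : orderOf x = p) (hxc : x ∈ center Q)
    (hfix : α x = x) : ∀ z ∈ center Q, α z = z := by
  classical
  have hmap : ∀ z ∈ center Q, α z ∈ center Q := fun z hz => by
    have := (inferInstance : (center Q).Characteristic).fixed α
    exact (SetLike.ext_iff.1 this z).2 hz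
  let ρ : MulAut Q →* MulAut ↥(center Q) :=
    { toFun := fun β => MulEquiv.ofBijective ((β.toMonoidHom.comp (center Q).subtype).codRestrict (center Q)
        fun z => by
          have := (inferInstance : (center Q).Characteristic).fixed β
          exact (SetLike.ext_iff.1 this (z : Q)).2 z.2)
        ((Finite.injective_iff_bijective).1 fun a b h => Subtype.ext (β.injective (congrArg Subtype.val h)))
      map_one' := by ext z; rfl
      map_mul' := fun β γ => by ext z; rfl }
  have h1 : ρ α = 1 := by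
    refine CfsgLib.Transfer.aut_eq_one_of_fix_omega hp2 (hQ.to_subgroup _) _
      (Nat.Coprime.coprime_dvd_left (orderOf_map_dvd ρ α) hα) fun z hz => ?_
    have hz' : z ∈ zpowers (⟨x, hxc⟩ : ↥(center Q)) := by
      let _ := Fintype.ofFinite ↥(center Q)
      set x' : ↥(center Q) := ⟨x, hxc⟩ with hx'
      have hxo' : orderOf x' = p := by rw [← Subgroup.orderOf_coe, hxo]
      have h2 : (zpowers x' : Set ↥(center Q)).toFinset = Finset.univ.filter fun a : ↥(center Q) => a ^ p = 1 := by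
        refine Finset.eq_of_subset_of_card_le (fun a ha => ?_) ?_
        · rw [Set.mem_toFinset] at ha
          obtain ⟨i, rfl⟩ := mem_zpowers_iff.1 ha
          refine Finset.mem_filter.2 ⟨Finset.mem_univ _, ?_⟩
          rw [← zpow_natCast, ← zpow_mul, mul_comm, zpow_mul, zpow_natCast, ← hxo', pow_orderOf_eq_one,
            one_zpow]
        · refine (IsCyclic.card_pow_eq_one_le hp.out.pos).trans (le_of_eq ?_)
          rw [Set.toFinset_card, ← Nat.card_eq_fintype_card]
          exact (hxo'.symm.trans (Nat.card_zpowers x').symm)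
      exact Set.mem_toFinset.1 (h2.symm ▸ Finset.mem_filter.2 ⟨Finset.mem_univ _, hz⟩)
    obtain ⟨i, rfl⟩ := mem_zpowers_iff.1 hz'
    rw [map_zpow]
    congr 1
    exact Subtype.ext hfix
  intro z hz
  exact congrArg Subtype.val (DFunLike.congr_fun h1 (⟨z, hz⟩ : ↥(center Q)))

end CfsgLib.LocalEven.IsolatedSylow
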