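import Mathlib
import Cfsg.Agent.Lib.PGroup.RankTwoClassification
import Cfsg.Agent.Lib.Transfer.MaximalClass
import Cfsg.Agent.Lib.Solvable.UniqueSubgroup
import Cfsg.Agent.Lib.LocalEven.IsolatedSylow.Fixed
import Cfsg.Agent.S1447

/-!
Groups of maximal class and rank two: coprime automorphisms fixing the centre pointwise fix
nothing outside the Frattini subgroup only for odd exponent.
-/

set_option autoImplicit false

namespace CfsgLib.LocalEven.IsolatedSylow

open Subgroup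
open scoped commutatorElement

variable {Q : Type*} [Group Q] [Finite Q] {p : ℕ} [hp : Fact p.Prime]

theorem cyc_comm {G : Type*} [Group G] (h : IsCyclic G) (a b : G) : a * b = b * a := by
  obtain ⟨g, hg⟩ := h.exists_generator
  obtain ⟨i, rfl⟩ := mem_zpowers_iff.1 (hg a)
  obtain ⟨j, rfl⟩ := mem_zpowers_iff.1 (hg b)
  exact (Commute.zpow_zpow_self g i j).eq

/-- What is used about a group of maximal class. -/
structure MaxSetting (p n : ℕ) (x : Q) (A₀ : Subgroup Q) : Prop where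
  setup : CfsgLib.PGroup.RankTwoClass.Setup p A₀
  card : Nat.card Q = p ^ n
  four : 4 ≤ n
  notCentral : ¬ A₀ ≤ center Q
  char : ∀ α : MulAut Q, ∀ a ∈ A₀, α a ∈ A₀
  ordx : orderOf x = p
  mem : ∀ N : Subgroup Q, N.Normal → N ≠ ⊥ → x ∈ N
  small : ∀ g : Q, (∀ h : Q, h * g * h⁻¹ ∈ zpowers g) → g ^ p = 1

theorem exists_maxSetting {n : ℕ} (hp2 : p ≠ 2) (hrank : Cfsg.PRankLE p 2 Q) (hcard : Nat.card Q = p ^ n)
    (hn : 4 ≤ n) (hlcs : (⊤ : Subgroup Q).lowerCentralSeries (n - 2) ≠ ⊥) {x : Q} (hxo : orderOf x = p)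
    (hxc : x ∈ center Q) : ∃ A₀ : Subgroup Q, MaxSetting p n x A₀ := by
  classical
  have hQ : IsPGroup p Q := IsPGroup.of_card hcard
  have := hQ.isNilpotent
  have hcl : Group.nilpotencyClass Q = n - 1 := by
    refine le_antisymm (CfsgLib.Transfer.nilpotencyClass_le_of_card hcard (by omega)) ?_
    by_contra h
    exact hlcs (Subgroup.lowerCentralSeries_eq_bot_iff_nilpotencyClass_le.2 (by omega))
  have hncyc : ¬ IsCyclic ↥(⊤ : Subgroup Q) := fun h => by
    have hc : IsCyclic Q := isCyclic_of_surjective Subgroup.topEquiv Subgroup.topEquiv.surjective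
    refine hlcs (le_bot_iff.1 ((Subgroup.lowerCentralSeries_antitone _ (show 1 ≤ n - 2 by omega)).trans ?_))
    rw [Subgroup.top_lowerCentralSeries_one, _root_.commutator_def, le_bot_iff,
      Subgroup.commutator_eq_bot_iff_le_centralizer]
    exact fun a _ => mem_centralizer_iff.2 fun b _ => cyc_comm hc b a
  obtain ⟨A₀, -, hAn, hAe, hAc⟩ := CfsgLib.Transfer.exists_normal_elemAb_sq hQ hp2 hncyc
  have huniq : ∀ N : Subgroup Q, N.Normal → Nat.card N = p ^ 2 →
      N = (⊤ : Subgroup Q).lowerCentralSeries (n - 2 - 1) := by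
    intro N hN hc
    refine CfsgLib.Transfer.normal_eq_lowerCentralSeries hcard hcl (by omega) N (show 2 ≤ n - 2 by omega) ?_
    have h := N.card_mul_index
    rw [hc, hcard, show p ^ n = p ^ 2 * p ^ (n - 2) by rw [← pow_add]; congr 1; omega] at h
    exact Nat.eq_of_mul_eq_mul_left (pow_pos hp.out.pos _) h
  have hnc : ¬ A₀ ≤ center Q := by
    intro h
    refine hlcs ?_
    rw [show n - 2 = (n - 2 - 1) + 1 by omega, Subgroup.lowerCentralSeries_succ, ← huniq A₀ hAn hAc,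
      Subgroup.commutator_eq_bot_iff_le_centralizer]
    exact h.trans (center_le_centralizer _)
  have hs : CfsgLib.PGroup.RankTwoClass.Setup p A₀ := ⟨hp2, hQ, hrank, hAn, hAe, hAc⟩
  obtain ⟨a, ha, hac, -, -⟩ := hs.exists_gen hnc
  have hcyc := isCyclic_center hQ hp2 hrank (hAe.2 a ha) hac
  refine ⟨A₀, hs, hcard, hn, hnc, ?_, hxo, ?_, ?_⟩
  · intro α b hb
    haveI := hAn.map α.toMonoidHom α.surjective
    have h1 := huniq (A₀.map α.toMonoidHom) inferInstance
      (by rw [card_map_of_injective α.injective, hAc])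
    rw [← huniq A₀ hAn hAc] at h1
    exact h1.le ⟨b, hb, rfl⟩
  · intro N hN hne
    obtain ⟨u, hu, hu1⟩ := (bot_or_exists_ne_one _).resolve_left
      (CfsgLib.PGroup.inf_center_ne_bot hQ N hne)
    obtain ⟨c, hc⟩ := hcyc.exists_generator
    -- the element of order `p` in the cyclic group generated by `u` is a power of `x`
    obtain ⟨v, hv, hvo⟩ := CfsgLib.PGroup.exists_orderOf_eq hQ (H := zpowers u) (fun e => hu1 (by
      have := mem_zpowers u; rw [e, mem_bot] at this; exact this))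
    have hvN : v ∈ N := zpowers_le.2 hu.1 hv
    have hvc : v ∈ center Q := zpowers_le.2 hu.2 hv
    let _ := Fintype.ofFinite ↥(center Q)
    have h2 : (⟨x, hxc⟩ : ↥(center Q)) ∈ zpowers (⟨v, hvc⟩ : ↥(center Q)) := by
      by_contra hne'
      have hd : Disjoint (zpowers (⟨v, hvc⟩ : ↥(center Q))) (zpowers (⟨x, hxc⟩ : ↥(center Q))) := by
        rw [disjoint_iff]
        rcases (Nat.dvd_prime hp.out).1 ((card_dvd_of_le (inf_le_right :
          zpowers (⟨v, hvc⟩ : ↥(center Q)) ⊓ zpowers (⟨x, hxc⟩ : ↥(center Q)) ≤ _)).trans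
          (by rw [Nat.card_zpowers, ← Subgroup.orderOf_coe, hxo])) with h | h
        · exact Subgroup.eq_bot_of_card_eq _ h
        · exact absurd ((eq_of_le_of_card_ge inf_le_right (by
            rw [h, Nat.card_zpowers, ← Subgroup.orderOf_coe, hxo])).ge (mem_zpowers _)).1 hne'
      have hcardle : Nat.card ↥(zpowers (⟨v, hvc⟩ : ↥(center Q)) ⊔ zpowers (⟨x, hxc⟩ : ↥(center Q))) ≤ p := by
        have hpow : ∀ g ∈ zpowers (⟨v, hvc⟩ : ↥(center Q)) ⊔ zpowers (⟨x, hxc⟩ : ↥(center Q)), g ^ p = 1 := by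
          let K : Subgroup ↥(center Q) :=
            (MonoidHom.mk' (fun u : ↥(center Q) => u ^ p) fun u v =>
              (show Commute u v from cyc_comm hcyc u v).mul_pow p).ker
          have hle : zpowers (⟨v, hvc⟩ : ↥(center Q)) ⊔ zpowers (⟨x, hxc⟩ : ↥(center Q)) ≤ K :=
            sup_le (zpowers_le.2 (Subtype.ext (hvo ▸ pow_orderOf_eq_one v)))
              (zpowers_le.2 (Subtype.ext (hxo ▸ pow_orderOf_eq_one x)))
          exact fun g hg => hle hg
        rw [Nat.card_eq_fintype_card, ← Finset.card_univ, ← Finset.card_map (Function.Embedding.subtype _)]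
        refine (Finset.card_le_card ?_).trans (IsCyclic.card_pow_eq_one_le (α := ↥(center Q)) hp.out.pos)
        intro g hg
        simp only [Finset.mem_map, Finset.mem_univ, true_and] at hg
        obtain ⟨g', rfl⟩ := hg
        exact Finset.mem_filter.2 ⟨Finset.mem_univ _, hpow g' g'.2⟩
      have := eq_of_le_of_card_ge (le_sup_left :
        zpowers (⟨v, hvc⟩ : ↥(center Q)) ≤ zpowers (⟨v, hvc⟩ : ↥(center Q)) ⊔ zpowers (⟨x, hxc⟩ : ↥(center Q)))
        (hcardle.trans (le_of_eq (by rw [Nat.card_zpowers, ← Subgroup.orderOf_coe, hvo])))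
      exact hne' (this.ge (mem_sup_right (mem_zpowers _)))
    obtain ⟨i, hi⟩ := mem_zpowers_iff.1 h2
    have := congrArg Subtype.val hi
    simp only [SubgroupClass.coe_zpow] at this
    exact this ▸ zpow_mem hvN i
  · intro g hg
    obtain ⟨k, hk⟩ := IsPGroup.iff_orderOf.1 hQ g
    rcases Nat.lt_or_ge k 2 with h2 | h2
    · exact orderOf_dvd_iff_pow_eq_one.1 (hk ▸ (pow_dvd_pow p (by omega : k ≤ 1)).trans (pow_one p).dvd)
    exfalso
    set w := g ^ p ^ (k - 2) with hw
    have hwo : orderOf w = p ^ 2 := by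
      rw [hw, orderOf_pow' _ (pow_ne_zero _ hp.out.ne_zero), hk,
        Nat.gcd_eq_right (pow_dvd_pow p (by omega : k - 2 ≤ k)), Nat.pow_div (by omega) hp.out.pos,
        show k - (k - 2) = 2 by omega]
    have hWn : (zpowers w).Normal := by
      refine ⟨fun u hu h => ?_⟩
      obtain ⟨i, rfl⟩ := mem_zpowers_iff.1 hu
      rw [← conj_zpow, hw, ← conj_pow]
      obtain ⟨j, hj⟩ := mem_zpowers_iff.1 (hg h)
      rw [← hj, ← zpow_natCast (g ^ j), ← zpow_mul, ← zpow_mul]
      refine mem_zpowers_iff.2 ⟨j * i, ?_⟩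
      rw [← zpow_natCast g, ← zpow_mul]
      congr 1
      ring
    have h1 := huniq (zpowers w) hWn (by rw [Nat.card_zpowers, hwo])
    rw [← huniq A₀ hAn hAc] at h1
    have := hAe.2 w (h1 ▸ mem_zpowers w)
    have h3 := orderOf_dvd_of_pow_eq_one this
    rw [hwo] at h3
    have h4 := Nat.le_of_dvd hp.out.pos h3
    nlinarith [hp.out.two_le]

variable {n : ℕ} {x : Q} {A₀ : Subgroup Q}

theorem MaxSetting.M_facts (h : MaxSetting p n x A₀) :
    (centralizer (A₀ : Set Q)).Normal ∧ (centralizer (A₀ : Set Q)).index = p ∧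
      Cfsg.IsMetacyclic ↥(centralizer (A₀ : Set Q)) ∧
      ⁅centralizer (A₀ : Set Q), centralizer (A₀ : Set Q)⁆ ≤ zpowers x := by
  classical
  have hs := h.setup
  set M := centralizer (A₀ : Set Q) with hM
  haveI hMn : M.Normal := hs.M_normal
  have hMp : IsPGroup p ↥M := hs.pgroup.to_subgroup M
  set A' := A₀.subgroupOf M with hA'
  have hA'c : A' ≤ center ↥M := fun a ha => mem_center_iff.2 fun m =>
    Subtype.ext (hs.commute ha m.2).eq.symm
  have hs' : CfsgLib.PGroup.RankTwoClass.Setup p A' := by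
    refine ⟨hs.odd, hMp, ?_, ⟨fun a ha g => ?_⟩, ⟨⟨⟨fun a b => Subtype.ext (Subtype.ext ?_)⟩⟩, fun a ha => ?_⟩, ?_⟩
    · intro B hB hBp
      haveI := hB
      have := hs.rank (B.map M.subtype) ⟨⟨by
        rintro ⟨_, a, ha, rfl⟩ ⟨_, b, hb, rfl⟩
        exact Subtype.ext (congrArg (fun u : ↥B => ((u : ↥M) : Q))
          (hB.is_comm.comm ⟨a, ha⟩ ⟨b, hb⟩))⟩⟩ (by
        rintro _ ⟨a, ha, rfl⟩
        exact congrArg Subtype.val (hBp a ha))
      rwa [card_map_of_injective M.subtype_injective] at this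
    · rw [mem_center_iff.1 (hA'c ha) g, mul_inv_cancel_right]; exact ha
    · exact (hs.commute a.2 (a : ↥M).2 |> fun _ => CfsgLib.PGroup.elemAb_comm hs.elem a.2 b.2)
    · exact Subtype.ext (hs.elem.2 _ ha)
    · rw [hA', Nat.card_congr (subgroupOfEquivOfLe hs.le_M).toEquiv, hs.card]
  have hall : ∀ g : ↥M, g ^ p = 1 → g ∈ A' := fun g hg =>
    hs.mem_of_pow g.2 (by simpa using congrArg Subtype.val hg)
  have hsmall : CfsgLib.PGroup.HuppertMetacyclic.SmallOmega p ↥M :=
    le_trans (Nat.card_le_card_of_injective (fun g : {g : ↥M // g ^ p = 1} => (⟨g, hall g g.2⟩ : A'))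
      (fun _ _ e => Subtype.ext (congrArg Subtype.val e :))) hs'.card.le
  have hmeta := CfsgLib.PGroup.HuppertMetacyclic.isMetacyclic_rigid hs.odd
    (hs'.rigid hall (Or.inl hA'c)) hMp hsmall
  refine ⟨hMn, hs.index_M h.notCentral, hmeta, ?_⟩
  obtain ⟨N, hN, hNc, hQc⟩ := hmeta
  have hle : ⁅M, M⁆ ≤ N.map M.subtype := by
    rw [Subgroup.commutator_le]
    intro a ha b hb
    refine ⟨⁅(⟨a, ha⟩ : ↥M), ⟨b, hb⟩⁆, ?_, rfl⟩
    refine (QuotientGroup.eq_one_iff (N := N) _).1 ?_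
    show QuotientGroup.mk' N ⁅(⟨a, ha⟩ : ↥M), ⟨b, hb⟩⁆ = 1
    rw [map_commutatorElement, commutatorElement_eq_one_iff_mul_comm]
    exact cyc_comm hQc _ _
  haveI : IsCyclic ↥(N.map M.subtype) := isCyclic_of_surjective (M.subtype.subgroupMap N)
    (M.subtype.subgroupMap_surjective N)
  haveI : IsCyclic ↥⁅M, M⁆ := isCyclic_of_injective (Subgroup.inclusion hle) (Subgroup.inclusion_injective hle)
  obtain ⟨g, hg⟩ := IsCyclic.exists_generator (α := ↥⁅M, M⁆)
  have hgen : zpowers (g : Q) = ⁅M, M⁆ := le_antisymm (zpowers_le.2 g.2) fun t ht => by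
    obtain ⟨i, hi⟩ := mem_zpowers_iff.1 (hg ⟨t, ht⟩)
    exact mem_zpowers_iff.2 ⟨i, by simpa using congrArg Subtype.val hi⟩
  haveI hCn : (⁅M, M⁆).Normal := Subgroup.commutator_normal M M
  have hgp : (g : Q) ^ p = 1 := h.small g fun u => hgen.symm ▸ hCn.conj_mem g g.2 u
  by_cases hg1 : (g : Q) = 1
  · rw [← hgen, hg1, zpowers_one_eq_bot]; exact bot_le
  have hxg : x ∈ ⁅M, M⁆ := h.mem _ hCn fun e => hg1 (mem_bot.1 (e ▸ g.2))
  rw [← hgen] at hxg ⊢
  refine (eq_of_le_of_card_ge (zpowers_le.2 hxg) (le_of_eq ?_)).ge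
  rw [Nat.card_zpowers, Nat.card_zpowers, h.ordx, orderOf_eq_prime hgp hg1]

theorem MaxSetting.noWreath (h : MaxSetting p n x A₀)
    (W : Sylow p (Equiv.Perm (Fin (p ^ 2))))
    (f : Q →* ↥(W : Subgroup (Equiv.Perm (Fin (p ^ 2))))) : ¬ Function.Surjective f := by
  obtain ⟨-, hi, hm, hd⟩ := h.M_facts
  exact noWreath_of_index_prime h.setup.odd h.setup.rank _ hi hm
    (fun N hN hne => hd.trans (zpowers_le.2 (h.mem N hN hne))) W f

theorem MaxSetting.odd_of_noFix (h : MaxSetting p n x A₀) {𝔸 : Subgroup (MulAut Q)}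
    (hA : (Nat.card 𝔸).Coprime p) (hfix : ∀ α ∈ 𝔸, α x = x) (hnf : NoFix 𝔸) :
    ∃ k, n = 2 * k + 1 := by
  classical
  have hs := h.setup
  have hQ := hs.pgroup
  obtain ⟨hMn, hMi, hMm, -⟩ := h.M_facts
  haveI := hMn
  set M := centralizer (A₀ : Set Q) with hM
  have hMchar : ∀ α : MulAut Q, ∀ m ∈ M, α m ∈ M := by
    intro α m hm
    refine mem_centralizer_iff.2 fun a ha => ?_
    have := congrArg α (mem_centralizer_iff.1 hm _ (h.char α.symm a ha))
    simpa using this
  have hΦM : frattini Q ≤ M := by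
    have hpr : Nat.card (Q ⧸ M) = p := by rw [← index_eq_card, hMi]
    haveI : IsCyclic (Q ⧸ M) := isCyclic_of_prime_card hpr
    refine CfsgLib.Transfer.frattini_le_of_commutator_pow M (p := p) (fun a b => ?_) fun a => ?_
    · refine (QuotientGroup.eq_one_iff _).1 ?_
      show QuotientGroup.mk' M ⁅a, b⁆ = 1
      rw [map_commutatorElement, commutatorElement_eq_one_iff_mul_comm]
      exact cyc_comm inferInstance _ _
    · exact hMi ▸ Subgroup.pow_index_mem M a
  have hMΦ : ¬ M ≤ frattini Q := by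
    intro hle
    have heq : frattini Q = M := le_antisymm hΦM hle
    have hc : IsCyclic Q := CfsgLib.PGroup.isCyclic_of_frattini_quotient
      (isCyclic_of_prime_card (p := p) (by rw [← index_eq_card, heq, hMi]))
    refine h.notCentral fun a _ => mem_center_iff.2 fun g => ?_
    exact cyc_comm hc g a
  -- the fixed points and the commutators, computed in the semidirect product
  let G' := SemidirectProduct Q ↥𝔸 𝔸.subtype
  haveI : Finite G' := Finite.of_equiv _ SemidirectProduct.equivProd.symm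
  let inl' : Q →* G' := SemidirectProduct.inl
  have hinl : Function.Injective inl' := SemidirectProduct.inl_injective
  set R := M.map inl' with hR
  set A := (SemidirectProduct.inr : ↥𝔸 →* G').range with hAdef
  have hconj : ∀ (a : ↥𝔸) (g : Q), (SemidirectProduct.inr a : G') * inl' g * (SemidirectProduct.inr a)⁻¹ =
      inl' ((a : MulAut Q) g) := fun a g => ((SemidirectProduct.inl_aut a g).trans (by simp [inl'])).symm
  have hRp : IsPGroup p ↥R := (hQ.to_subgroup M).map inl'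
  have hRm : Cfsg.IsMetacyclic ↥R :=
    isMetacyclic_of_surjective' hMm (inl'.subgroupMap M) (inl'.subgroupMap_surjective M)
  have hAR : A ≤ normalizer (R : Set G') := by
    rintro _ ⟨a, rfl⟩
    refine mem_normalizer_fintype ?_
    rintro _ ⟨m, hm, rfl⟩
    rw [hconj]
    exact ⟨_, hMchar a m hm, rfl⟩
  have hAc : (Nat.card A).Coprime p := by
    rw [hAdef, ← Nat.card_congr (MonoidHom.ofInjective SemidirectProduct.inr_injective).toEquiv]; exact hA
  obtain ⟨-, hsup, hinf, hnonab⟩ := Cfsg.Agent.S1447.result p hs.odd R A hRp hRm hAR hAc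
  set C := M ⊓ ((centralizer (A : Set G')).comap inl') with hC
  set D := (⁅R, A⁆).comap inl' with hD
  have hDR : ⁅R, A⁆ ≤ R := CfsgLib.Solvable.commutator_le_of_le_normalizer hAR
  have hDM : D ≤ M := fun d hd => by
    obtain ⟨m, hm, e⟩ := hDR hd
    exact hinl e ▸ hm
  have hxM : x ∈ M := h.setup.le_M (h.mem A₀ hs.normal fun e => h.notCentral (e ▸ bot_le))
  have hxC : x ∈ C := by
    refine ⟨hxM, mem_centralizer_iff.2 ?_⟩
    rintro _ ⟨a, rfl⟩
    refine mul_inv_eq_iff_eq_mul.1 ?_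
    rw [hconj, hfix a a.2]
  have hCfix : ∀ c ∈ C, ∀ α ∈ 𝔸, α c = c := by
    intro c hc α hα
    refine hinl ?_
    rw [← hconj ⟨α, hα⟩ c, mem_centralizer_iff.1 hc.2 _ ⟨⟨α, hα⟩, rfl⟩, mul_inv_cancel_right]
  have hCΦ : C ≤ frattini Q := fun c hc => noFix_fixed hnf (hCfix c hc)
  have hDC : ∀ g ∈ D, g ∈ C → g = 1 := fun g hd hc => by
    have h1 : inl' g ∈ ⁅R, A⁆ ⊓ (R ⊓ centralizer (A : Set G')) := ⟨hd, ⟨g, hc.1, rfl⟩, hc.2⟩
    rw [hinf, mem_bot] at h1
    exact hinl (by rw [h1, map_one])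
  have hxD : x ∉ D := fun hx => by
    have := hDC x hx hxC
    have e := h.ordx
    rw [this, orderOf_one] at e
    exact hp.out.ne_one e.symm
  have hnact : ¬ A ≤ centralizer (R : Set G') := by
    intro hle
    refine hMΦ fun m hm => hCΦ ⟨hm, mem_centralizer_iff.2 fun a ha => ?_⟩
    exact (mem_centralizer_iff.1 (hle ha) _ ⟨m, hm, rfl⟩).symm
  have hMab : ∀ a ∈ M, ∀ b ∈ M, a * b = b * a := by
    by_contra hne
    push Not at hne
    obtain ⟨a, ha, b, hb, hab⟩ := hne
    obtain ⟨-, -, -, -, hder⟩ := hnonab (fun hc => hab (hinl (by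
      rw [map_mul, map_mul]
      exact congrArg Subtype.val (hc.is_comm.comm (⟨inl' a, a, ha, rfl⟩ : ↥R) ⟨inl' b, b, hb, rfl⟩)))) hnact
    haveI := Subgroup.commutator_normal M M
    have hx : x ∈ ⁅M, M⁆ := h.mem _ inferInstance fun e => hab (commutatorElement_eq_one_iff_mul_comm.1
      (mem_bot.1 (e ▸ commutator_mem_commutator ha hb)))
    refine hxD (hder ?_)
    rw [hR, ← map_commutator]
    exact ⟨x, hx, rfl⟩
  have hsupM : D ⊔ C = M := by
    refine map_injective hinl ?_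
    have e1 : D.map inl' = ⁅R, A⁆ := by
      refine le_antisymm (map_comap_le _ _) fun g hg => ?_
      obtain ⟨m, hm, rfl⟩ := hDR hg
      exact ⟨m, hg, rfl⟩
    have e2 : C.map inl' = R ⊓ centralizer (A : Set G') := by
      ext g
      constructor
      · rintro ⟨c, hc, rfl⟩; exact ⟨⟨c, hc.1, rfl⟩, hc.2⟩
      · rintro ⟨⟨m, hm, rfl⟩, hg⟩; exact ⟨m, ⟨hm, hg⟩, rfl⟩
    rw [Subgroup.map_sup, e1, e2, hsup]
  have hord_mem : ∀ g ∈ M, orderOf g = p → g ∈ A₀ := fun g hg ho =>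
    hs.mem_of_pow hg (ho ▸ pow_orderOf_eq_one g)
  have hspan : ∀ (S : Subgroup Q) (a b : Q), a ∈ S → b ∈ S → a ∈ M → b ∈ M → orderOf a = p →
      orderOf b = p → a ∉ zpowers b → A₀ ≤ S := by
    intro S a b ha hb haM hbM hao hbo hab
    have hle : A₀ ⊓ S ≤ A₀ := inf_le_left
    have hlt : zpowers b < A₀ ⊓ S := lt_of_le_of_ne (zpowers_le.2 ⟨hord_mem b hbM hbo, hb⟩)
      fun e => hab (e ▸ ⟨hord_mem a haM hao, ha⟩)
    have := CfsgLib.Transfer.prime_mul_card_le hQ hlt
    rw [Nat.card_zpowers, hbo, ← pow_two, ← hs.card] at this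
    exact (eq_of_le_of_card_ge hle this).ge.trans inf_le_right
  have hDne : D ≠ ⊥ := fun e => hMΦ (by rw [← hsupM, e, bot_sup_eq]; exact hCΦ)
  have hgenOf : ∀ S : Subgroup Q, S ≤ M → (∀ a b : Q, a ∈ S → b ∈ S → orderOf a = p → orderOf b = p →
      a ∈ zpowers b) → ∃ s : Q, zpowers s = S := by
    intro S hS hu
    haveI : IsCyclic ↥S := CfsgLib.Solvable.isCyclic_of_unique_of_comm (hQ.to_subgroup S)
      (fun a b => Subtype.ext (hMab a (hS a.2) b (hS b.2))) fun a b ha hb => by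
        obtain ⟨i, hi⟩ := mem_zpowers_iff.1
          (hu a b a.2 b.2 ((Subgroup.orderOf_coe a).trans ha) ((Subgroup.orderOf_coe b).trans hb))
        exact mem_zpowers_iff.2 ⟨i, Subtype.ext (by simpa using hi)⟩
    obtain ⟨g, hg⟩ := IsCyclic.exists_generator (α := ↥S)
    exact ⟨g, le_antisymm (zpowers_le.2 g.2) fun t ht => by
      obtain ⟨i, hi⟩ := mem_zpowers_iff.1 (hg ⟨t, ht⟩)
      exact mem_zpowers_iff.2 ⟨i, by simpa using congrArg Subtype.val hi⟩⟩
  have hxA : x ∈ A₀ := h.mem A₀ hs.normal fun e => h.notCentral (e ▸ bot_le)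
  obtain ⟨d, hd⟩ := hgenOf D hDM fun a b ha hb hao hbo => by_contra fun hab =>
    hxD (hspan D a b ha hb (hDM ha) (hDM hb) hao hbo hab hxA)
  obtain ⟨c, hc⟩ := hgenOf C inf_le_left fun a b ha hb hao hbo => by_contra fun hab => by
    obtain ⟨v, hv, hvo⟩ := CfsgLib.PGroup.exists_orderOf_eq hQ hDne
    have := hDC v hv (hspan C a b ha hb ha.1 hb.1 hao hbo hab (hord_mem v (hDM hv) hvo))
    rw [this, orderOf_one] at hvo
    exact hp.out.ne_one hvo.symm
  have hdD : d ∈ D := hd ▸ mem_zpowers d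
  have hcC : c ∈ C := hc ▸ mem_zpowers c
  have hdM : d ∈ M := hDM hdD
  have hcM : c ∈ M := hcC.1
  have hcd : Commute c d := hMab c hcM d hdM
  have hrep : ∀ m ∈ M, ∃ i j : ℤ, m = c ^ i * d ^ j := by
    intro m hm
    rw [← hsupM, sup_comm, ← hd, ← hc] at hm
    have hn : zpowers d ≤ normalizer (zpowers c : Set Q) := fun v hv => mem_normalizer_fintype fun u hu => by
      rw [hMab v (zpowers_le.2 hdM hv) u (zpowers_le.2 hcM hu), mul_inv_cancel_right]; exact hu
    have h1 : m ∈ ((zpowers c ⊔ zpowers d : Subgroup Q) : Set Q) := hm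
    rw [Subgroup.coe_mul_of_right_le_normalizer_left _ _ hn] at h1
    obtain ⟨_, ⟨i, rfl⟩, _, ⟨j, rfl⟩, rfl⟩ := h1
    exact ⟨i, j, rfl⟩
  obtain ⟨k, hk⟩ := IsPGroup.iff_orderOf.1 hQ c
  obtain ⟨l, hl⟩ := IsPGroup.iff_orderOf.1 hQ d
  have hdisj : zpowers c ⊓ zpowers d = ⊥ := by
    rw [eq_bot_iff]
    rintro g ⟨h1, h2⟩
    exact mem_bot.2 (hDC g (hd ▸ h2) (hc ▸ h1))
  have hcardM : Nat.card M = p ^ (k + l) := by
    let f : ↥(zpowers c) × ↥(zpowers d) → ↥M := fun q =>
      ⟨(q.1 : Q) * q.2, mul_mem (zpowers_le.2 hcM q.1.2) (zpowers_le.2 hdM q.2.2)⟩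
    have hf : Function.Bijective f := by
      refine ⟨fun q r e => ?_, fun m => ?_⟩
      · exact Subgroup.mul_injective_of_disjoint (disjoint_iff.2 hdisj) (congrArg Subtype.val e)
      · obtain ⟨i, j, e⟩ := hrep m m.2
        exact ⟨(⟨c ^ i, i, rfl⟩, ⟨d ^ j, j, rfl⟩), Subtype.ext e.symm⟩
    rw [← Nat.card_eq_of_bijective f hf, Nat.card_prod, Nat.card_zpowers, Nat.card_zpowers, hk, hl, pow_add]
  have hn : n = k + l + 1 := by
    have := M.card_mul_index
    rw [hcardM, hMi, h.card, ← pow_succ] at this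
    exact (Nat.pow_right_injective hp.out.two_le this).symm
  have hl0 : l ≠ 0 := by
    rintro rfl
    rw [pow_zero, orderOf_eq_one_iff] at hl
    exact hDne (by rw [← hd, hl, zpowers_one_eq_bot])
  have hconjM : ∀ (g m : Q), m ∈ M → g * m * g⁻¹ ∈ M := fun g m hm => hMn.conj_mem m hm g
  -- the powers
  have hpowN : ∀ (N : ℕ) (i j : ℤ), (c ^ i * d ^ j) ^ N = (c ^ N) ^ i * (d ^ N) ^ j := by
    intro N i j
    rw [(hcd.zpow_zpow i j).mul_pow, ← zpow_natCast, ← zpow_natCast, ← zpow_natCast c, ← zpow_natCast d,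
      ← zpow_mul, ← zpow_mul, ← zpow_mul, ← zpow_mul, mul_comm i, mul_comm j]
  rcases lt_trichotomy k l with hkl | hkl | hkl
  · exfalso
    -- `⟨d ^ p ^ k⟩` is normal
    have hck : c ^ p ^ k = 1 := hk ▸ pow_orderOf_eq_one c
    have hnorm : (zpowers (d ^ p ^ k)).Normal := by
      refine ⟨fun u hu g => ?_⟩
      obtain ⟨i, rfl⟩ := mem_zpowers_iff.1 hu
      rw [← conj_zpow, ← conj_pow]
      obtain ⟨a, b, e⟩ := hrep _ (hconjM g d hdM)
      refine zpow_mem ?_ i
      rw [e, hpowN, hck, one_zpow, one_mul]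
      exact ⟨b, rfl⟩
    have hne : zpowers (d ^ p ^ k) ≠ ⊥ := by
      rw [zpowers_ne_bot]
      intro e
      have := orderOf_dvd_of_pow_eq_one e
      rw [hl, Nat.pow_dvd_pow_iff_le_right hp.out.one_lt] at this
      omega
    exact hxD (zpowers_le.2 (pow_mem hdD _) (h.mem _ hnorm hne))
  · exact ⟨k, by omega⟩
  · exfalso
    have hdl : d ^ p ^ l = 1 := hl ▸ pow_orderOf_eq_one d
    have hconjc : ∀ g : Q, g * c ^ p ^ l * g⁻¹ ∈ zpowers (c ^ p ^ l) := fun g => by
      obtain ⟨a, b, e⟩ := hrep _ (hconjM g c hcM)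
      rw [← conj_pow, e, hpowN, hdl, one_zpow, mul_one]
      exact ⟨a, rfl⟩
    have h1 := h.small _ hconjc
    rw [← pow_mul, ← pow_succ] at h1
    have hle := orderOf_dvd_of_pow_eq_one h1
    rw [hk, Nat.pow_dvd_pow_iff_le_right hp.out.one_lt] at hle
    have hk1 : k = l + 1 := by omega
    -- now `c ^ p ^ (l - 1)` generates a cyclic normal subgroup of order `p ^ 2`
    have hdp : ∀ j : ℤ, d ^ j ∈ frattini Q → (p : ℤ) ∣ j := by
      intro j hj
      by_contra hpj
      obtain ⟨r, s, hrs⟩ := (Nat.prime_iff_prime_int.1 hp.out).coprime_iff_not_dvd.2 hpj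
      refine hMΦ ?_
      rw [← hsupM]
      refine sup_le ?_ hCΦ
      rw [← hd, zpowers_le]
      have : d = (d ^ p) ^ r * (d ^ j) ^ s := by
        rw [← zpow_natCast d p, ← zpow_mul, ← zpow_mul, ← zpow_add, mul_comm (p : ℤ) r, mul_comm j s, hrs,
          zpow_one]
      rw [this]
      exact mul_mem (zpow_mem (CfsgLib.PGroup.pow_mem_frattini hQ d) r) (zpow_mem hj s)
    have hconjc2 : ∀ g : Q, g * c ^ p ^ (l - 1) * g⁻¹ ∈ zpowers (c ^ p ^ (l - 1)) := fun g => by
      have hgΦ : g * c * g⁻¹ ∈ frattini Q := (inferInstance : (frattini Q).Normal).conj_mem c (hCΦ hcC) g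
      obtain ⟨a, b, e⟩ := hrep _ (hconjM g c hcM)
      rw [e] at hgΦ
      have hb : (p : ℤ) ∣ b := hdp b (by
        have := mul_mem (inv_mem (zpow_mem (hCΦ hcC) a)) hgΦ
        rwa [inv_mul_cancel_left] at this)
      obtain ⟨b', rfl⟩ := hb
      rw [← conj_pow, e, hpowN]
      have : (d ^ p ^ (l - 1)) ^ ((p : ℤ) * b') = 1 := by
        rw [zpow_mul, zpow_natCast, ← pow_mul, ← pow_succ, show l - 1 + 1 = l by omega, hdl, one_zpow]
      rw [this, mul_one]
      exact ⟨a, rfl⟩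
    have h2 := h.small _ hconjc2
    rw [← pow_mul, ← pow_succ, show l - 1 + 1 = l by omega] at h2
    have := orderOf_dvd_of_pow_eq_one h2
    rw [hk, Nat.pow_dvd_pow_iff_le_right hp.out.one_lt] at this
    omega

end CfsgLib.LocalEven.IsolatedSylow
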