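import Mathlib
import Cfsg.Agent.Lib.LocalEven.IsolatedSylow.Fixed

/-!
The groups of rank two with generators `x, y, z`: the abelian subgroup `⟨y, z⟩` has index `p`,
and coprime automorphisms fixing a central element of order `p` fix some element outside the
Frattini subgroup.
-/

set_option autoImplicit false

namespace CfsgLib.LocalEven.IsolatedSylow

open Subgroup
open scoped commutatorElement

variable {Q : Type*} [Group Q] [Finite Q] {p : ℕ} [hp : Fact p.Prime]

/-- The common shape of the two nonmetacyclic types. -/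
structure XYZ (p n : ℕ) (x y z : Q) : Prop where
  card : Nat.card Q = p ^ n
  four : 4 ≤ n
  gen : closure ({x, y, z} : Set Q) = ⊤
  xp : x ^ p = 1
  yp : y ^ p = 1
  zp : z ^ p ^ (n - 2) = 1
  yz : y * z = z * y
  xy : ∃ e : ℕ, ¬ p ∣ e ∧ x⁻¹ * y * x = y * z ^ (e * p ^ (n - 3))
  xz : x * z = z * x ∨ x⁻¹ * z * x = y * z

variable {n : ℕ} {x y z : Q}

theorem XYZ.pgroup (h : XYZ p n x y z) : IsPGroup p Q := IsPGroup.of_card h.card

theorem XYZ.comm_W (h : XYZ p n x y z) : ∀ a ∈ closure ({y, z} : Set Q), ∀ b ∈ closure ({y, z} : Set Q),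
    a * b = b * a := by
  have hyz : ∀ u ∈ ({y, z} : Set Q), ∀ v ∈ ({y, z} : Set Q), u * v = v * u := by
    rintro u (rfl | rfl) v (rfl | rfl) <;> first | rfl | exact h.yz | exact h.yz.symm
  intro a ha b hb
  have := isMulCommutative_closure hyz
  exact congrArg Subtype.val (this.is_comm.comm (⟨a, ha⟩ : ↥(closure ({y, z} : Set Q))) ⟨b, hb⟩)

theorem XYZ.mem_y (_h : XYZ p n x y z) : y ∈ closure ({y, z} : Set Q) := subset_closure (by simp)

theorem XYZ.mem_z (_h : XYZ p n x y z) : z ∈ closure ({y, z} : Set Q) := subset_closure (by simp)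

theorem XYZ.W_normal (h : XYZ p n x y z) : (closure ({y, z} : Set Q)).Normal := by
  set W := closure ({y, z} : Set Q)
  obtain ⟨e, -, he⟩ := h.xy
  have h1 : ∀ w ∈ W, x⁻¹ * w * x ∈ W := by
    intro w hw
    induction hw using closure_induction with
    | mem u hu =>
      rcases hu with rfl | rfl
      · rw [he]; exact mul_mem h.mem_y (pow_mem h.mem_z _)
      · rcases h.xz with hxz | hxz
        · rw [mul_assoc, ← hxz, inv_mul_cancel_left]; exact h.mem_z
        · rw [hxz]; exact mul_mem h.mem_y h.mem_z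
    | one => simp
    | mul u v _ _ iu iv =>
      rw [show x⁻¹ * (u * v) * x = (x⁻¹ * u * x) * (x⁻¹ * v * x) by group]; exact mul_mem iu iv
    | inv u _ iu => rw [show x⁻¹ * u⁻¹ * x = (x⁻¹ * u * x)⁻¹ by group]; exact inv_mem iu
  have hxN : x ∈ normalizer (W : Set Q) := by
    rw [← inv_inv x]
    refine inv_mem (mem_normalizer_fintype fun w hw => ?_)
    simpa using h1 w hw
  refine normalizer_eq_top_iff.1 (top_le_iff.1 ?_)
  rw [← h.gen, closure_le]
  rintro u (rfl | rfl | rfl)
  · exact hxN
  · exact Subgroup.le_normalizer h.mem_y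
  · exact Subgroup.le_normalizer h.mem_z

theorem XYZ.orders (h : XYZ p n x y z) :
    (closure ({y, z} : Set Q)).index = p ∧ orderOf z = p ^ (n - 2) := by
  set W := closure ({y, z} : Set Q) with hW
  haveI := h.W_normal
  have hzle : orderOf z ≤ p ^ (n - 2) := Nat.le_of_dvd (pow_pos hp.out.pos _) (orderOf_dvd_of_pow_eq_one h.zp)
  have hyle : orderOf y ≤ p := Nat.le_of_dvd hp.out.pos (orderOf_dvd_of_pow_eq_one h.yp)
  have hWle : Nat.card W ≤ orderOf y * orderOf z := by
    have hcz : zpowers z ≤ W := zpowers_le.2 h.mem_z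
    let f : ↥(zpowers y) × ↥(zpowers z) → ↥W := fun q =>
      ⟨(q.1 : Q) * q.2, mul_mem (zpowers_le.2 h.mem_y q.1.2) (hcz q.2.2)⟩
    have hf : Function.Surjective f := by
      rintro ⟨w, hw⟩
      suffices ∃ i j : ℤ, w = y ^ i * z ^ j by
        obtain ⟨i, j, rfl⟩ := this
        exact ⟨(⟨y ^ i, i, rfl⟩, ⟨z ^ j, j, rfl⟩), rfl⟩
      have hc : Commute y z := h.yz
      induction hw using closure_induction with
      | mem u hu =>
        rcases hu with rfl | rfl
        · exact ⟨1, 0, by simp⟩
        · exact ⟨0, 1, by simp⟩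
      | one => exact ⟨0, 0, by simp⟩
      | mul u v _ _ iu iv =>
        obtain ⟨i, j, rfl⟩ := iu
        obtain ⟨i', j', rfl⟩ := iv
        refine ⟨i + i', j + j', ?_⟩
        rw [zpow_add, zpow_add]
        exact (hc.zpow_zpow i' j).symm.mul_mul_mul_comm _ _
      | inv u _ iu =>
        obtain ⟨i, j, rfl⟩ := iu
        exact ⟨-i, -j, by rw [mul_inv_rev, zpow_neg, zpow_neg, (hc.zpow_zpow i j).inv_inv.eq]⟩
    have := Nat.card_le_card_of_surjective f hf
    rwa [Nat.card_prod, Nat.card_zpowers, Nat.card_zpowers] at this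
  have hidx : W.index ≤ p := by
    rw [index_eq_card]
    have htop : zpowers (QuotientGroup.mk' W x) = ⊤ := by
      rw [← top_le_iff, ← map_top_of_surjective (QuotientGroup.mk' W) (QuotientGroup.mk'_surjective W),
        ← h.gen, MonoidHom.map_closure, closure_le]
      rintro _ ⟨u, hu, rfl⟩
      rcases hu with rfl | rfl | rfl
      · exact mem_zpowers _
      · rw [show QuotientGroup.mk' W u = 1 from (QuotientGroup.eq_one_iff _).2 h.mem_y]; exact one_mem _
      · rw [show QuotientGroup.mk' W u = 1 from (QuotientGroup.eq_one_iff _).2 h.mem_z]; exact one_mem _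
    rw [← card_top (G := Q ⧸ W), ← htop, Nat.card_zpowers]
    exact Nat.le_of_dvd hp.out.pos (orderOf_dvd_of_pow_eq_one (by rw [← map_pow, h.xp, map_one]))
  have hmul := W.card_mul_index
  rw [h.card] at hmul
  have hpow : p ^ n = p ^ (n - 2) * p * p := by
    rw [mul_assoc, ← pow_two, ← pow_add]; congr 1; have := h.four; omega
  have h2 : Nat.card W ≤ p ^ (n - 2) * p := hWle.trans (by
    rw [mul_comm]; exact Nat.mul_le_mul hzle hyle)
  have hi : W.index = p := by
    refine le_antisymm hidx (Nat.le_of_mul_le_mul_left ?_ (pow_pos hp.out.pos (n - 2) |> fun h0 => Nat.mul_pos h0 hp.out.pos))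
    calc p ^ (n - 2) * p * p = Nat.card W * W.index := by rw [hmul, hpow]
      _ ≤ p ^ (n - 2) * p * W.index := Nat.mul_le_mul_right _ h2
  refine ⟨hi, le_antisymm hzle ?_⟩
  rw [hi, hpow] at hmul
  have h3 : p ^ (n - 2) * p ≤ orderOf z * p := by
    rw [← Nat.eq_of_mul_eq_mul_right hp.out.pos hmul]
    exact hWle.trans (by rw [mul_comm]; exact Nat.mul_le_mul_left _ hyle)
  exact Nat.le_of_mul_le_mul_right h3 hp.out.pos

theorem XYZ.not_mem_center (h : XYZ p n x y z) : y ∉ center Q := by
  obtain ⟨e, hpe, he⟩ := h.xy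
  intro hy
  have h1 : y * z ^ (e * p ^ (n - 3)) = y := by
    rw [← he, mul_assoc, ← mem_center_iff.1 hy x, inv_mul_cancel_left]
  have h2 := orderOf_dvd_of_pow_eq_one (mul_eq_left.1 h1)
  rw [h.orders.2, show n - 2 = (n - 3) + 1 by have := h.four; omega, pow_succ'] at h2
  exact hpe ((Nat.mul_dvd_mul_iff_right (pow_pos hp.out.pos _)).1 h2)

theorem XYZ.noWreath (h : XYZ p n x y z) (hp2 : p ≠ 2) (hrank : Cfsg.PRankLE p 2 Q)
    (W : Sylow p (Equiv.Perm (Fin (p ^ 2))))
    (f : Q →* ↥(W : Subgroup (Equiv.Perm (Fin (p ^ 2))))) : ¬ Function.Surjective f := by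
  set M := closure ({y, z} : Set Q) with hM
  refine noWreath_of_index_prime hp2 hrank M h.orders.1 ?_ ?_ W f
  · haveI : IsMulCommutative ↥M := ⟨⟨fun a b => Subtype.ext (h.comm_W a a.2 b b.2)⟩⟩
    let _ : CommGroup ↥M := { (inferInstance : Group ↥M) with mul_comm := fun a b => Subtype.ext (h.comm_W a a.2 b b.2) }
    set z' : ↥M := ⟨z, h.mem_z⟩
    have hN : (zpowers z').Normal := inferInstance
    refine ⟨zpowers z', hN, inferInstance, ?_⟩
    refine ⟨QuotientGroup.mk' (zpowers z') ⟨y, h.mem_y⟩, fun q => ?_⟩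
    obtain ⟨⟨w, hw⟩, rfl⟩ := QuotientGroup.mk'_surjective (zpowers z') q
    show QuotientGroup.mk' (zpowers z') ⟨w, hw⟩ ∈ zpowers (QuotientGroup.mk' (zpowers z') ⟨y, h.mem_y⟩)
    induction hw using closure_induction with
    | mem u hu =>
      rcases hu with rfl | rfl
      · exact mem_zpowers _
      · rw [show QuotientGroup.mk' (zpowers z') ⟨u, _⟩ = 1 from (QuotientGroup.eq_one_iff _).2 (mem_zpowers z')]
        exact one_mem _
    | one => exact one_mem _
    | mul u v hu hv iu iv =>
      rw [show (⟨u * v, mul_mem hu hv⟩ : ↥M) = ⟨u, hu⟩ * ⟨v, hv⟩ from rfl, map_mul]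
      exact mul_mem iu iv
    | inv u hu iu =>
      rw [show (⟨u⁻¹, inv_mem hu⟩ : ↥M) = ⟨u, hu⟩⁻¹ from rfl, map_inv]
      exact inv_mem iu
  · intro N _ _
    refine Subgroup.commutator_le.2 fun a ha b hb => ?_
    rw [commutatorElement_eq_one_iff_mul_comm.2 (h.comm_W a ha b hb)]
    exact one_mem _

theorem XYZ.not_noFix (h : XYZ p n x y z) (hp2 : p ≠ 2) (hrank : Cfsg.PRankLE p 2 Q)
    {𝔸 : Subgroup (MulAut Q)} (hA : (Nat.card 𝔸).Coprime p) {c : Q} (hco : orderOf c = p)
    (hcc : c ∈ center Q) (hfix : ∀ α ∈ 𝔸, α c = c) : ¬ NoFix 𝔸 := by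
  classical
  intro hnf
  have hQ := h.pgroup
  set W := closure ({y, z} : Set Q) with hW
  haveI := h.W_normal
  obtain ⟨hWi, hzo⟩ := h.orders
  have hcyc := isCyclic_center hQ hp2 hrank h.yp h.not_mem_center
  have hfixZ : ∀ α ∈ 𝔸, ∀ u ∈ center Q, α u = u := fun α hα =>
    fix_center hp2 hQ hcyc (Nat.Coprime.coprime_dvd_left
      (by rw [← Subgroup.orderOf_mk α hα]; exact orderOf_dvd_natCard _) hA) hco hcc (hfix α hα)
  -- the subgroup `⟨y, z ^ p⟩` contains the Frattini subgroup and not `z`
  set K : Subgroup Q := closure ({y, z ^ p} : Set Q) with hK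
  have hKW : K ≤ W := (closure_le _).2 (by
    rintro u (rfl | rfl)
    · exact h.mem_y
    · exact pow_mem h.mem_z p)
  have hKy : y ∈ K := subset_closure (by simp)
  have hKzp : z ^ p ∈ K := subset_closure (by simp)
  obtain ⟨e, hpe, he⟩ := h.xy
  have hζ : z ^ (e * p ^ (n - 3)) ∈ K := by
    rw [show e * p ^ (n - 3) = p * (e * p ^ (n - 4)) by
      rw [mul_left_comm, ← pow_succ']; congr 2; have := h.four; omega, pow_mul]
    exact pow_mem hKzp _
  have hzpow : x⁻¹ * z ^ p * x = z ^ p := by
    rcases h.xz with hxz | hxz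
    · rw [mul_assoc, ← ((show Commute x z from hxz).pow_right p).eq, inv_mul_cancel_left]
    · have := conj_pow (a := x⁻¹) (b := z) (i := p)
      rw [inv_inv, hxz, (show Commute y z from h.yz).mul_pow, h.yp, one_mul] at this
      exact this.symm
  have hzpc : z ^ p ∈ center Q := by
    refine mem_center_iff.2 fun g => ?_
    have hle : ⊤ ≤ centralizer ({z ^ p} : Set Q) := by
      rw [← h.gen, closure_le]
      rintro u (rfl | rfl | rfl) <;> refine mem_centralizer_singleton_iff.2 ?_
      · calc u * z ^ p = u * (u⁻¹ * z ^ p * u) := by rw [hzpow]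
          _ = z ^ p * u := by group
      · exact ((show Commute u z from h.yz).pow_right p).eq
      · exact (Commute.self_pow u p).eq
    exact mem_centralizer_singleton_iff.1 (hle (mem_top g))
  haveI hKn : K.Normal := by
    refine normalizer_eq_top_iff.1 (top_le_iff.1 ?_)
    rw [← h.gen, closure_le]
    rintro u (rfl | rfl | rfl)
    · rw [← inv_inv u]
      refine inv_mem (mem_normalizer_fintype fun w hw => ?_)
      rw [inv_inv]
      induction hw using closure_induction with
      | mem v hv =>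
        rcases hv with rfl | rfl
        · rw [he]; exact mul_mem hKy hζ
        · rw [hzpow]; exact hKzp
      | one => simp
      | mul a b _ _ ia ib =>
        rw [show u⁻¹ * (a * b) * u = (u⁻¹ * a * u) * (u⁻¹ * b * u) by group]; exact mul_mem ia ib
      | inv a _ ia => rw [show u⁻¹ * a⁻¹ * u = (u⁻¹ * a * u)⁻¹ by group]; exact inv_mem ia
    · exact mem_normalizer_fintype fun w hw => by
        rw [h.comm_W u h.mem_y w (hKW hw), mul_inv_cancel_right]; exact hw
    · exact mem_normalizer_fintype fun w hw => by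
        rw [h.comm_W u h.mem_z w (hKW hw), mul_inv_cancel_right]; exact hw
  set π := QuotientGroup.mk' K with hπ
  have hπy : π y = 1 := (QuotientGroup.eq_one_iff _).2 hKy
  have hπxz : Commute (π x) (π z) := by
    rcases h.xz with hxz | hxz
    · exact (show Commute x z from hxz).map π
    · have := congrArg π hxz
      rw [map_mul, map_mul, map_inv, map_mul, hπy, one_mul] at this
      calc π x * π z = π x * ((π x)⁻¹ * π z * π x) := by rw [this]
        _ = π z * π x := by group
  have hcommQ : ∀ a b : Q ⧸ K, a * b = b * a := by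
    have htop : (⊤ : Subgroup (Q ⧸ K)) = closure {π x, π z} := by
      refine le_antisymm ?_ le_top
      rw [← map_top_of_surjective π (QuotientGroup.mk'_surjective K), ← h.gen, MonoidHom.map_closure,
        closure_le]
      rintro _ ⟨u, hu, rfl⟩
      rcases hu with rfl | rfl | rfl
      · exact subset_closure (by simp)
      · rw [hπy]; exact one_mem _
      · exact subset_closure (by simp)
    have := isMulCommutative_closure (k := ({π x, π z} : Set (Q ⧸ K))) (by
      rintro u (rfl | rfl) v (rfl | rfl) <;> first | rfl | exact hπxz | exact hπxz.symm)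
    intro a b
    exact congrArg Subtype.val (this.is_comm.comm (⟨a, htop.le (mem_top a)⟩ : ↥(closure {π x, π z}))
      ⟨b, htop.le (mem_top b)⟩)
  have hΦK : frattini Q ≤ K := by
    refine CfsgLib.Transfer.frattini_le_of_commutator_pow K (p := p) (fun a b => ?_) fun a => ?_
    · refine (QuotientGroup.eq_one_iff _).1 ?_
      show π ⁅a, b⁆ = 1
      rw [map_commutatorElement, commutatorElement_eq_one_iff_mul_comm]
      exact hcommQ _ _
    · refine (QuotientGroup.eq_one_iff _).1 ?_
      show π (a ^ p) = 1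
      have ha : a ∈ closure ({x, y, z} : Set Q) := h.gen.ge (mem_top a)
      induction ha using closure_induction with
      | mem u hu =>
        rcases hu with rfl | rfl | rfl
        · rw [h.xp, map_one]
        · rw [h.yp, map_one]
        · exact (QuotientGroup.eq_one_iff _).2 hKzp
      | one => simp
      | mul u v _ _ iu iv =>
        rw [map_pow] at iu iv ⊢
        rw [map_mul, (show Commute (π u) (π v) from hcommQ _ _).mul_pow, iu, iv, one_mul]
      | inv u _ iu =>
        rw [map_pow] at iu ⊢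
        rw [map_inv, inv_pow, iu, inv_one]
  -- `p`-th powers of elements of `K`
  have hKpow : ∀ w ∈ K, ∃ j : ℤ, w ^ p = (z ^ p) ^ ((p : ℤ) * j) := by
    intro w hw
    induction hw using closure_induction with
    | mem v hv =>
      rcases hv with rfl | rfl
      · exact ⟨0, by rw [mul_zero, zpow_zero, h.yp]⟩
      · exact ⟨1, by rw [mul_one, zpow_natCast]⟩
    | one => exact ⟨0, by simp⟩
    | mul a b ha hb ia ib =>
      obtain ⟨i, hi⟩ := ia
      obtain ⟨j, hj⟩ := ib
      exact ⟨i + j, by rw [(show Commute a b from h.comm_W a (hKW ha) b (hKW hb)).mul_pow, hi, hj, mul_add, zpow_add]⟩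
    | inv a _ ia =>
      obtain ⟨i, hi⟩ := ia
      exact ⟨-i, by rw [inv_pow, hi, mul_neg, zpow_neg]⟩
  have hzpo : orderOf (z ^ p) = p ^ (n - 3) := by
    have h3 : n - 2 = (n - 3) + 1 := by have := h.four; omega
    rw [orderOf_pow' z hp.out.ne_zero, hzo, h3, pow_succ, Nat.gcd_mul_left_left,
      Nat.mul_div_cancel _ hp.out.pos]
  by_cases hzc : z ∈ center Q
  · have hzK := hΦK (noFix_fixed hnf fun α hα => hfixZ α hα z hzc)
    obtain ⟨j, hj⟩ := hKpow z hzK
    have h1 : (z ^ p) ^ ((p : ℤ) * j - 1) = 1 := by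
      rw [zpow_sub, ← hj, zpow_one, mul_inv_cancel]
    have h2 := orderOf_dvd_iff_zpow_eq_one.2 h1
    rw [hzpo, show n - 3 = (n - 4) + 1 by have := h.four; omega, pow_succ] at h2
    push_cast at h2
    have h4 : (p : ℤ) ∣ (p : ℤ) * j - 1 := (dvd_mul_left _ _).trans h2
    have h5 : (p : ℤ) ∣ 1 := by simpa using dvd_sub (dvd_mul_right (p : ℤ) j) h4
    exact hp.out.ne_one (by exact_mod_cast Int.eq_one_of_dvd_one (by positivity) h5)
  · have hxz : x⁻¹ * z * x = y * z := by
      refine h.xz.resolve_left fun hxz => hzc (mem_center_iff.2 fun g => ?_)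
      have hle : ⊤ ≤ centralizer ({z} : Set Q) := by
        rw [← h.gen, closure_le]
        rintro u (rfl | rfl | rfl) <;> refine mem_centralizer_singleton_iff.2 ?_
        · exact hxz
        · exact h.yz
        · rfl
      exact mem_centralizer_singleton_iff.1 (hle (mem_top g))
    have hyΦ : y ∈ frattini Q := by
      refine CfsgLib.PGroup.commutator_le_frattini hQ ?_
      rw [show y = ⁅x⁻¹, z⁆ by rw [commutatorElement_def, inv_inv, hxz, mul_inv_cancel_right],
        _root_.commutator_def]
      exact commutator_mem_commutator (mem_top _) (mem_top _)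
    have hWC : W ≤ centralizer (frattini Q : Set Q) := fun w hw => mem_centralizer_iff.2 fun v hv =>
      h.comm_W v (hKW (hΦK hv)) w hw
    have hCW : centralizer (frattini Q : Set Q) = W := by
      rcases (Nat.dvd_prime hp.out).1 (hWi ▸ Subgroup.index_dvd_of_le hWC) with h1 | h1
      · refine absurd (mem_center_iff.2 fun g => ?_) h.not_mem_center
        have : g ∈ centralizer (frattini Q : Set Q) := by rw [index_eq_one.1 h1]; exact mem_top g
        exact (mem_centralizer_iff.1 this y hyΦ).symm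
      · refine (eq_of_le_of_card_ge hWC (Nat.le_of_eq ?_)).symm
        have e1 := W.card_mul_index
        have e2 := (centralizer (frattini Q : Set Q)).card_mul_index
        rw [hWi] at e1; rw [h1] at e2
        exact Nat.eq_of_mul_eq_mul_right hp.out.pos (e2.trans e1.symm)
    have hαW : ∀ (α : MulAut Q), ∀ w ∈ W, α w ∈ W := by
      intro α w hw
      rw [← hCW] at hw ⊢
      refine mem_centralizer_iff.2 fun v hv => ?_
      have hv' : α.symm v ∈ frattini Q := by
        have := (inferInstance : (frattini Q).Characteristic).fixed α.symm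
        exact (SetLike.ext_iff.1 this v).2 hv
      have := congrArg α (mem_centralizer_iff.1 hw _ hv')
      simpa using this
    let _ : CommGroup ↥W :=
      { (inferInstance : Group ↥W) with mul_comm := fun a b => Subtype.ext (h.comm_W a a.2 b b.2) }
    let _ := Fintype.ofFinite 𝔸
    set w : ↥W := ∏ a : 𝔸, (⟨(a : MulAut Q) z, hαW a z h.mem_z⟩ : ↥W) with hw
    have hwfix : ∀ α ∈ 𝔸, α (w : Q) = w := by
      intro α hα
      let αW : ↥W →* ↥W := (α.toMonoidHom.comp W.subtype).codRestrict W fun v => hαW α v v.2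
      have : αW w = w := by
        rw [hw, map_prod]
        exact Fintype.prod_equiv (Equiv.mulLeft (⟨α, hα⟩ : 𝔸)) _ _ fun a => rfl
      exact congrArg Subtype.val this
    have hwp : (w : Q) ^ p = (z ^ p) ^ Nat.card 𝔸 := by
      have : w ^ p = (⟨z ^ p, pow_mem h.mem_z p⟩ : ↥W) ^ Nat.card 𝔸 := by
        rw [hw, ← Finset.prod_pow, Nat.card_eq_fintype_card, ← Finset.card_univ, ← Finset.prod_const]
        refine Finset.prod_congr rfl fun a _ => Subtype.ext ?_
        show ((a : MulAut Q) z) ^ p = z ^ p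
        rw [← map_pow, hfixZ a a.2 _ hzpc]
      exact congrArg Subtype.val this
    obtain ⟨j, hj⟩ := hKpow _ (hΦK (noFix_fixed hnf hwfix))
    rw [hwp, ← zpow_natCast] at hj
    have h1 : (z ^ p) ^ ((p : ℤ) * j - (Nat.card 𝔸 : ℤ)) = 1 := by
      rw [zpow_sub, ← hj, mul_inv_cancel]
    have h2 := orderOf_dvd_iff_zpow_eq_one.2 h1
    rw [hzpo, show n - 3 = (n - 4) + 1 by have := h.four; omega, pow_succ] at h2
    push_cast at h2
    have h4 : (p : ℤ) ∣ (p : ℤ) * j - (Nat.card 𝔸 : ℤ) := (dvd_mul_left _ _).trans h2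
    have h5 : (p : ℤ) ∣ (Nat.card 𝔸 : ℤ) := by simpa using dvd_sub (dvd_mul_right (p : ℤ) j) h4
    exact (hp.out.coprime_iff_not_dvd.1 hA.symm) (by exact_mod_cast h5)

end CfsgLib.LocalEven.IsolatedSylow
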