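import Mathlib
import Cfsg.Prelude.Def_Transfer
import Cfsg.Agent.S3888
import Cfsg.Agent.Lib.LocalEven.IsolatedSylow.Control
import Cfsg.Agent.Lib.LocalEven.IsolatedSylow.Types
import Cfsg.Agent.Lib.LocalEven.IsolatedSylow.MaxClass

/-!
The Sylow subgroups of a perfect group of `p`-rank two with an isolated element of order `p`.
-/

set_option autoImplicit false

namespace CfsgLib.LocalEven.IsolatedSylow

open Subgroup
open scoped commutatorElement

variable {p : ℕ} [hp : Fact p.Prime]

theorem isMetacyclic_of_cyclic_subgroup {Q : Type*} [Group Q] [Finite Q] (hQ : IsPGroup p Q) {H : Subgroup Q}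
    (hH : IsCyclic H) (hi : H.index ∣ p) : Cfsg.IsMetacyclic Q := by
  rcases (Nat.dvd_prime hp.out).1 hi with h | h
  · have hn : H.Normal := by rw [index_eq_one.1 h]; infer_instance
    haveI : Subsingleton (Q ⧸ H) := Finite.card_le_one_iff_subsingleton.1 (by rw [← index_eq_card, h])
    exact ⟨H, hn, hH, inferInstance⟩
  · have hn : H.Normal := CfsgLib.PGroup.normal_of_isCoatom hQ ⟨fun e => by
      rw [e, index_top] at h; exact hp.out.ne_one h.symm, fun K hK => by
      rcases (Nat.dvd_prime hp.out).1 (h ▸ Subgroup.index_dvd_of_le hK.le) with h' | h'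
      · exact index_eq_one.1 h'
      · exact absurd (eq_of_le_of_card_ge hK.le (Nat.le_of_eq (by
          have e1 := H.card_mul_index
          have e2 := K.card_mul_index
          rw [h] at e1; rw [h'] at e2
          exact Nat.eq_of_mul_eq_mul_right hp.out.pos (e2.trans e1.symm)))) hK.ne⟩
    exact ⟨H, hn, hH, isCyclic_of_prime_card (p := p) (by rw [← index_eq_card, h])⟩

theorem isExtraspecial_of_cube {Q : Type*} [Group Q] [Finite Q] (hc : Nat.card Q = p ^ 3)
    (hexp : ∀ g : Q, g ^ p = 1) (hrank : Cfsg.PRankLE p 2 Q) : Cfsg.IsExtraspecial p Q := by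
  have hQ : IsPGroup p Q := IsPGroup.of_card hc
  have := hQ.isNilpotent
  have hnab : ¬ ∀ a b : Q, a * b = b * a := by
    intro hab
    have h := hrank ⊤ ⟨⟨fun a b => Subtype.ext (hab a b)⟩⟩ fun a _ => hexp a
    rw [card_top, hc] at h
    exact absurd ((Nat.pow_le_pow_iff_right hp.out.one_lt).1 h) (by norm_num)
  obtain ⟨j, hj, hjc⟩ := (Nat.dvd_prime_pow hp.out).1 (hc ▸ (center Q).card_subgroup_dvd_card)
  have hindex : (center Q).index = p ^ (3 - j) := by
    have h := (center Q).card_mul_index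
    rw [hjc, hc, show p ^ 3 = p ^ j * p ^ (3 - j) by rw [← pow_add]; congr 1; omega] at h
    exact Nat.eq_of_mul_eq_mul_left (pow_pos hp.out.pos _) h
  have hj1 : j = 1 := by
    rcases Nat.lt_or_ge j 2 with h | h
    · rcases Nat.eq_zero_or_pos j with rfl | h0
      · have : Nontrivial Q := Finite.one_lt_card_iff_nontrivial.1 (hc ▸ Nat.one_lt_pow (by norm_num) hp.out.one_lt)
        exact absurd (Subgroup.eq_bot_of_card_eq _ (by rw [hjc, pow_zero])) (Group.IsNilpotent.center_ne_bot (G := Q))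
      · omega
    · exfalso
      refine hnab (fun a b => ?_)
      have hcyc : IsCyclic (Q ⧸ center Q) := by
        rcases Nat.eq_or_lt_of_le (show 3 - j ≤ 1 by omega) with e | e
        · exact isCyclic_of_prime_card (p := p) (by rw [← index_eq_card, hindex, e, pow_one])
        · haveI : Subsingleton (Q ⧸ center Q) := Finite.card_le_one_iff_subsingleton.1
            (by rw [← index_eq_card, hindex, show 3 - j = 0 by omega, pow_zero])
          infer_instance
      exact commutative_of_cyclic_center_quotient (QuotientGroup.mk' (center Q))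
        (by rw [QuotientGroup.ker_mk']) a b
  subst hj1
  rw [pow_one] at hjc
  have hQc : Nat.card (Q ⧸ center Q) = p ^ 2 := by rw [← index_eq_card, hindex]
  have hder : _root_.commutator Q ≤ center Q := by
    rw [_root_.commutator_def, Subgroup.commutator_le]
    intro a _ b _
    refine (QuotientGroup.eq_one_iff _).1 ?_
    show QuotientGroup.mk' (center Q) ⁅a, b⁆ = 1
    rw [map_commutatorElement, commutatorElement_eq_one_iff_mul_comm]
    exact (IsPGroup.isMulCommutative_of_card_eq_prime_sq hQc).is_comm.comm _ _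
  have hder' : _root_.commutator Q = center Q := by
    refine hder.eq_or_lt.resolve_right fun hlt => hnab fun a b => ?_
    have hpr : Nat.card ↥(_root_.commutator Q) = 1 := by
      rcases (Nat.dvd_prime hp.out).1 (hjc ▸ card_dvd_of_le hder) with h | h
      · exact h
      · exact absurd (eq_of_le_of_card_ge hder (by rw [hjc, h])) hlt.ne
    have h1 : ⁅a, b⁆ ∈ _root_.commutator Q := by
      rw [_root_.commutator_def]; exact commutator_mem_commutator (mem_top a) (mem_top b)
    rw [Subgroup.eq_bot_of_card_eq _ hpr, mem_bot] at h1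
    exact commutatorElement_eq_one_iff_mul_comm.1 h1
  refine ⟨⟨hQ, le_antisymm ?_ ?_, hder'⟩, hjc⟩
  · exact CfsgLib.Transfer.frattini_le_of_commutator_pow (center Q) (p := p) (fun a b => hder (by
      rw [_root_.commutator_def]; exact commutator_mem_commutator (mem_top a) (mem_top b)))
      fun a => by rw [hexp a]; exact one_mem _
  · exact hder'.ge.trans (CfsgLib.PGroup.commutator_le_frattini hQ)

/-- The structure theorem. -/
theorem sylow_structure {L : Type*} [Group L] [Finite L] (hp2 : p ≠ 2) (hperf : commutator L = ⊤)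
    (hrank : Cfsg.PRankLE p 2 L) {x : L} (hxo : orderOf x = p) (hiso : Cfsg.IsIsolated x)
    (P : Sylow p L) (hxP : x ∈ (P : Subgroup L)) :
    (Cfsg.IsExtraspecial p ↥(P : Subgroup L) ∧ Nat.card (P : Subgroup L) = p ^ 3 ∧
        ∀ y ∈ (P : Subgroup L), y ^ p = 1) ∨
      (p = 3 ∧ ∃ k : ℕ, 2 ≤ k ∧ Nat.card (P : Subgroup L) = 3 ^ (2 * k + 1) ∧
        ∃ _ : Group.IsNilpotent ↥(P : Subgroup L), Group.nilpotencyClass ↥(P : Subgroup L) = 2 * k) := by
  classical
  set N := normalizer ((P : Subgroup L) : Set L) with hNdef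
  have hPN : (P : Subgroup L) ≤ N := Subgroup.le_normalizer
  haveI : ((P : Subgroup L).subgroupOf N).Normal := Subgroup.normal_in_normalizer
  have hcopN : (Nat.card ((P : Subgroup L).subgroupOf N)).Coprime ((P : Subgroup L).subgroupOf N).index := by
    obtain ⟨m, hm⟩ := IsPGroup.iff_card.1 P.2
    rw [Nat.card_congr (subgroupOfEquivOfLe hPN).toEquiv, hm]
    refine Nat.Coprime.pow_left _ (hp.out.coprime_iff_not_dvd.2 fun h => P.not_dvd_index ?_)
    exact h.trans (Subgroup.relIndex_mul_index hPN ▸ dvd_mul_right _ _)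
  obtain ⟨A', hA'⟩ := Subgroup.exists_right_complement'_of_coprime hcopN
  set A := A'.map N.subtype with hA
  have hAN : A ≤ N := map_subtype_le _
  have hAp : (Nat.card A).Coprime p := by
    rw [hA, card_map_of_injective N.subtype_injective, ← hA'.symm.index_eq_card]
    refine (hp.out.coprime_iff_not_dvd.2 fun h => P.not_dvd_index ?_).symm
    exact h.trans (Subgroup.relIndex_mul_index hPN ▸ dvd_mul_right _ _)
  set 𝔸 := CfsgLib.PGroup.inducedAut A (P : Subgroup L) hAN with h𝔸
  have h𝔸c : (Nat.card 𝔸).Coprime p := CfsgLib.PGroup.coprime_card_inducedAut hAp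
  set xP : ↥(P : Subgroup L) := ⟨x, hxP⟩ with hxPdef
  have hxPo : orderOf xP = p := by rw [← Subgroup.orderOf_coe, hxo]
  have hxc : xP ∈ center ↥(P : Subgroup L) := mem_center_iff.2 fun g => Subtype.ext
    (mem_centralizer_singleton_iff.1 (CfsgLib.LocalEven.isolated_pGroup_le_centralizer hiso P.2 hxP g.2))
  have hxfix : ∀ α ∈ 𝔸, α xP = xP := by
    intro α hα
    obtain ⟨a, hae⟩ := CfsgLib.PGroup.mem_inducedAut.1 hα
    refine Subtype.ext ?_
    rw [← hae, CfsgLib.PGroup.normalizerMonoidHom_coe]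
    exact mul_inv_eq_iff_eq_mul.2
      (mem_centralizer_singleton_iff.1 (CfsgLib.LocalEven.isolated_normalizer_le hiso P.2 hxP (hAN a.2)))
  have hrankP : Cfsg.PRankLE p 2 ↥(P : Subgroup L) := by
    intro B hB hBp
    haveI := hB
    have h := hrank (B.map (P : Subgroup L).subtype) ⟨⟨by
      rintro ⟨_, a, ha, rfl⟩ ⟨_, b, hb, rfl⟩
      exact Subtype.ext (congrArg (fun u : ↥B => ((u : ↥(P : Subgroup L)) : L))
        (hB.is_comm.comm ⟨a, ha⟩ ⟨b, hb⟩))⟩⟩ (by
      rintro _ ⟨a, ha, rfl⟩
      exact congrArg Subtype.val (hBp a ha))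
    rwa [card_map_of_injective (P : Subgroup L).subtype_injective] at h
  have key : (∀ (W : Sylow p (Equiv.Perm (Fin (p ^ 2))))
      (f : ↥(P : Subgroup L) →* ↥(W : Subgroup (Equiv.Perm (Fin (p ^ 2))))), ¬ Function.Surjective f) →
      NoFix 𝔸 := by
    intro hnw w hw
    refine mem_frattini_of_fixed P hPN le_rfl (sylow_le_commutator_normalizer P hperf hnw) w fun u hu v hv => ?_
    have h1 : (⟨u, hu⟩ : ↥N) ∈ (P : Subgroup L).subgroupOf N ⊔ A' := by
      rw [hA'.sup_eq_top]; exact mem_top _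
    obtain ⟨q, hq, a, ha, hqa⟩ := mem_sup_of_normal_left.1 h1
    set q' : ↥(P : Subgroup L) := ⟨(q : L), hq⟩ with hq'
    have haA : (a : L) ∈ A := ⟨a, ha, rfl⟩
    set α : MulAut ↥(P : Subgroup L) :=
      (P : Subgroup L).normalizerMonoidHom (inclusion hAN ⟨(a : L), haA⟩) with hα
    have hα𝔸 : α ∈ 𝔸 := CfsgLib.PGroup.mem_inducedAut.2 ⟨⟨(a : L), haA⟩, rfl⟩
    have hqu : u = (q : L) * (a : L) := (congrArg Subtype.val hqa).symm
    have hv' : v = q' * α w * q'⁻¹ := Subtype.ext (by
      rw [hv, hqu]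
      show (q : L) * (a : L) * (w : L) * ((q : L) * (a : L))⁻¹ =
        (q : L) * ((a : L) * (w : L) * (a : L)⁻¹) * (q : L)⁻¹
      group)
    rw [hv', show q' * α w * q'⁻¹ * w⁻¹ = ⁅q', α w⁆ * (α w * w⁻¹) by rw [commutatorElement_def]; group]
    refine mul_mem (CfsgLib.PGroup.commutator_le_frattini P.2 ?_) (hw α hα𝔸)
    rw [_root_.commutator_def]
    exact commutator_mem_commutator (mem_top _) (mem_top _)
  have hne : xP ≠ 1 := fun e => by rw [e, orderOf_one] at hxPo; exact hp.out.ne_one hxPo.symm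
  have hmeta : Cfsg.IsMetacyclic ↥(P : Subgroup L) → False := fun hm =>
    not_noFix_of_metacyclic P.2 hp2 hm h𝔸c hne hxfix (key (noWreath_of_metacyclic hp2 hm))
  obtain ⟨n, hn⟩ := IsPGroup.iff_card.1 P.2
  by_cases hn4 : 4 ≤ n
  · rcases Cfsg.Agent.S3888.result hp2 n hn hrankP with hm | ⟨-, u, v, w, hgen, hu, hv, hw, huw, hvw, huv⟩ |
        ⟨-, s, u, v, w, hs, hgen, hu, hv, hw, hvw, huv, huw⟩ | ⟨hp3, -, hlcs⟩
    · exact (hmeta hm).elim
    · have hX : XYZ p n u v w := ⟨hn, hn4, hgen, hu, hv, hw, hvw,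
        ⟨1, hp.out.not_dvd_one, by rw [one_mul]; exact huv⟩, Or.inl huw⟩
      exact absurd (key (hX.noWreath hp2 hrankP)) (hX.not_noFix hp2 hrankP h𝔸c hxPo hxc hxfix)
    · have hX : XYZ p n u v w := ⟨hn, hn4, hgen, hu, hv, hw, hvw, ⟨s, fun hd => (by
        rcases hs with rfl | hs
        · exact hp.out.not_dvd_one hd
        · exact hs (by rw [(ZMod.natCast_eq_zero_iff s p).2 hd]; exact IsSquare.zero)), huv⟩, Or.inr huw⟩
      exact absurd (key (hX.noWreath hp2 hrankP)) (hX.not_noFix hp2 hrankP h𝔸c hxPo hxc hxfix)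
    · obtain ⟨A₀, hM⟩ := exists_maxSetting hp2 hrankP hn hn4 hlcs hxPo hxc
      obtain ⟨k, rfl⟩ := hM.odd_of_noFix h𝔸c hxfix (key hM.noWreath)
      subst hp3
      have := P.2.isNilpotent
      refine Or.inr ⟨rfl, k, by omega, hn, this, le_antisymm ?_ ?_⟩
      · exact (CfsgLib.Transfer.nilpotencyClass_le_of_card hn (by omega)).trans (by omega)
      · by_contra h
        exact hlcs (Subgroup.lowerCentralSeries_eq_bot_iff_nilpotencyClass_le.2 (by omega))
  · by_cases h3 : n = 3 ∧ ∀ g : ↥(P : Subgroup L), g ^ p = 1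
    · obtain ⟨rfl, hexp⟩ := h3
      exact Or.inl ⟨isExtraspecial_of_cube hn hexp hrankP, hn,
        fun y hy => congrArg Subtype.val (hexp ⟨y, hy⟩)⟩
    · refine (hmeta ?_).elim
      obtain ⟨g, hg⟩ : ∃ g : ↥(P : Subgroup L), p ^ (n - 1) ≤ orderOf g := by
        by_cases h3' : n = 3
        · push Not at h3
          obtain ⟨g, hg⟩ := h3 h3'
          obtain ⟨j, hj⟩ := IsPGroup.iff_orderOf.1 P.2 g
          refine ⟨g, hj ▸ Nat.pow_le_pow_right hp.out.pos ?_⟩
          subst h3'
          by_contra hlt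
          exact hg (orderOf_dvd_iff_pow_eq_one.1 (hj ▸ (pow_dvd_pow p (by omega : j ≤ 1)).trans (pow_one p).dvd))
        · refine ⟨xP, ?_⟩
          rw [hxPo]
          exact (Nat.pow_le_pow_right hp.out.pos (by omega : n - 1 ≤ 1)).trans (pow_one p).le
      refine isMetacyclic_of_cyclic_subgroup P.2 (H := zpowers g) inferInstance ?_
      obtain ⟨j, hj, hje⟩ := (Nat.dvd_prime_pow hp.out).1 (hn ▸ (zpowers g).index_dvd_card)
      rw [hje]
      refine (pow_dvd_pow p (show j ≤ 1 from ?_)).trans (pow_one p).dvd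
      have h := (zpowers g).card_mul_index
      rw [hje, Nat.card_zpowers, hn] at h
      by_contra hj2
      have h' : p ^ (n - 1) * p ^ j ≤ p ^ n := h ▸ Nat.mul_le_mul_right _ hg
      rw [← pow_add] at h'
      have := (Nat.pow_le_pow_iff_right hp.out.one_lt).1 h'
      omega

end CfsgLib.LocalEven.IsolatedSylow
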